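import Cfsg.Agent.Lib.Helper43.Tri.Oct
import Cfsg.Agent.Lib.Helper43.OMin4

/-!
# Triality for `PΩ⁺₈(F)`: related triples, the subgroups `Zb Y`, classes of maximal t.s. subspaces
-/

set_option autoImplicit false
set_option linter.unusedSectionVars false

namespace Cfsg.Agent.Helper43.Tri

open Matrix QuadraticMap Cfsg.Agent.Helper13 Cfsg.Agent.Helper43 Cfsg.Agent.Helper5.OAut Module

variable {F : Type*} [Field F]

section mk

variable {ι : Type} [Fintype ι] [DecidableEq ι] (Q : QuadraticForm F (ι → F))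

/-- build an isometry from a linear map with a two-sided inverse -/
noncomputable def mkIso (f g : (ι → F) →ₗ[F] (ι → F)) (h1 : f ∘ₗ g = LinearMap.id)
    (h2 : g ∘ₗ f = LinearMap.id) (hQ : ∀ x, Q (f x) = Q x) : ↥(Cfsg.isometryGroup F ⇑Q) :=
  ⟨⟨LinearMap.toMatrix' f, LinearMap.toMatrix' g,
    by rw [← LinearMap.toMatrix'_comp, h1, LinearMap.toMatrix'_id],
    by rw [← LinearMap.toMatrix'_comp, h2, LinearMap.toMatrix'_id]⟩,
    fun x _ => by
      show Q (LinearMap.toMatrix' f *ᵥ x) = Q x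
      rw [LinearMap.toMatrix'_mulVec]
      exact hQ x⟩

theorem mkIso_smul (f g : (ι → F) →ₗ[F] (ι → F)) (h1 : f ∘ₗ g = LinearMap.id)
    (h2 : g ∘ₗ f = LinearMap.id) (hQ : ∀ x, Q (f x) = Q x) (x : ι → F) :
    mkIso Q f g h1 h2 hQ • x = f x := by
  show LinearMap.toMatrix' f *ᵥ x = f x
  rw [LinearMap.toMatrix'_mulVec]

/-- the subgroup of `Ω(Q)` generated by the Eichler elements `E(y,y')`, `y, y' ∈ Y` -/
def Zrad (Y : Submodule F (ι → F)) : Subgroup ↥(Cfsg.Omega F ⇑Q) :=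
  Subgroup.closure {g | ∃ y ∈ Y, ∃ y' ∈ Y, g = E Q y y'}

/-- its image in `PΩ(Q)` -/
def Zb (Y : Submodule F (ι → F)) : Subgroup (Cfsg.POmega F ⇑Q) := (Zrad Q Y).map (prj Q)

end mk

/-- the isometry group of the split octonion norm -/
abbrev O8 (F : Type*) [Field F] := ↥(Cfsg.isometryGroup F ⇑(stdPlus F 4))

/-- related triples: `g₀ (x y) = g₁(x) g₂(y)` -/
def Rel (g₀ g₁ g₂ : O8 F) : Prop := ∀ x y : OV F, g₀ • omul x y = omul (g₁ • x) (g₂ • y)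

theorem Rel.one : Rel (1 : O8 F) 1 1 := by
  intro x y
  rw [one_smul, one_smul, one_smul]

theorem Rel.mul {g₀ g₁ g₂ h₀ h₁ h₂ : O8 F} (hg : Rel g₀ g₁ g₂) (hh : Rel h₀ h₁ h₂) :
    Rel (g₀ * h₀) (g₁ * h₁) (g₂ * h₂) := by
  intro x y
  rw [mul_smul, mul_smul, mul_smul, hh x y, hg]

theorem Rel.inv {g₀ g₁ g₂ : O8 F} (hg : Rel g₀ g₁ g₂) : Rel g₀⁻¹ g₁⁻¹ g₂⁻¹ := by
  intro x y
  rw [inv_smul_eq_iff, hg, smul_inv_smul, smul_inv_smul]

/-- the set of first components of related triples is a subgroup -/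
def RelDom : Subgroup (O8 F) where
  carrier := {g₀ | ∃ g₁ g₂ : O8 F, Rel g₀ g₁ g₂}
  one_mem' := ⟨1, 1, Rel.one⟩
  mul_mem' := by
    rintro a b ⟨a1, a2, ha⟩ ⟨b1, b2, hb⟩
    exact ⟨a1 * b1, a2 * b2, ha.mul hb⟩
  inv_mem' := by
    rintro a ⟨a1, a2, ha⟩
    exact ⟨a1⁻¹, a2⁻¹, ha.inv⟩

theorem mem_RelDom (g₀ : O8 F) : g₀ ∈ RelDom ↔ ∃ g₁ g₂ : O8 F, Rel g₀ g₁ g₂ := Iff.rfl

/-- `Y` and `Y'` lie in the same class of maximal totally singular subspaces -/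
def SameCl (Y Y' : Submodule F (OV F)) : Prop := Even (4 - finrank F ↥(Y ⊓ Y'))

/-- maximal totally singular subspaces of the octonion norm -/
abbrev MTS (Y : Submodule F (OV F)) : Prop :=
  Cfsg.Agent.Helper36.TotSing.IsMTS (⇑(stdPlus F 4)) 4 Y

end Cfsg.Agent.Helper43.Tri
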