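import Mathlib
import Cfsg.Agent.Lib.Helper43.Tri.Rel
import Cfsg.Agent.Lib.Helper43.SpinorNorm

/-!
# Triality for `PΩ⁺₈(F)`, part 2: the conjugation `g ↦ ĝ = κ g κ` on isometries
-/

set_option autoImplicit false
set_option linter.unusedSectionVars false

namespace Cfsg.Agent.Helper43.Tri

open Matrix QuadraticMap Cfsg.Agent.Helper13 Cfsg.Agent.Helper43 Cfsg.Agent.Helper5.OAut Module

variable {F : Type*} [Field F]

theorem N_oone_ne' : stdPlus F 4 (oone : OV F) ≠ 0 := by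
  rw [N_oone]
  exact one_ne_zero

/-- the reflection in the identity octonion; it acts as `x ↦ -x̄` -/
noncomputable def r1 : O8 F := reflIso (stdPlus F 4) (N_oone_ne' (F := F))

/-- `ĝ = r₁ g r₁⁻¹`; it acts as `x ↦ conj (g (conj x))` -/
noncomputable def hatO (g : O8 F) : O8 F := r1 * g * r1⁻¹

/-- the same on `Ω` -/
noncomputable def hatΩ (g : ↥(Cfsg.Omega F ⇑(stdPlus F 4))) : ↥(Cfsg.Omega F ⇑(stdPlus F 4)) :=
  ⟨hatO (g : O8 F), (inferInstance : (Cfsg.Omega F ⇑(stdPlus F 4)).Normal).conj_mem _ g.2 r1⟩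

theorem hatΩ_coe (g : ↥(Cfsg.Omega F ⇑(stdPlus F 4))) : ((hatΩ g : ↥(Cfsg.Omega F ⇑(stdPlus F 4))) : O8 F) =
    hatO (g : O8 F) := rfl

end Cfsg.Agent.Helper43.Tri
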