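import Mathlib
import Cfsg.Agent.Lib.Helper5.OAut18
import Cfsg.Agent.Lib.Helper43.SpinorNorm
import Cfsg.Agent.Lib.Helper36.TotSing

/-!
# Triality for `PΩ⁺₈(F)`: definitions (split octonions as Zorn vector matrices)

`OV F = Fin 4 ⊕ Fin 4 → F` carries the split octonion product `omul` whose norm is
exactly `stdPlus F 4` (= `Cfsg.quadFormPlus 4 F`).  Coordinates of `x`:
`x (inl 0) = a`, `x (inl 1..3) = u`, `x (inr 0) = b`, `x (inr 1..3) = p`, i.e. the Zorn matrix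
`(a, u; -p, b)` with norm `a b + u·p`.
-/

set_option autoImplicit false

namespace Cfsg.Agent.Helper43.Tri

open Matrix QuadraticMap Cfsg.Agent.Helper13 Cfsg.Agent.Helper43 Cfsg.Agent.Helper5.OAut Module

variable {F : Type*} [Field F]

/-- the underlying space of the split octonions -/
abbrev OV (F : Type*) := Fin 4 ⊕ Fin 4 → F

/-- the split octonion product -/
def omul (x y : OV F) : OV F :=
  Sum.elim
    ![x (Sum.inl 0) * y (Sum.inl 0)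
        - (x (Sum.inl 1) * y (Sum.inr 1) + x (Sum.inl 2) * y (Sum.inr 2)
          + x (Sum.inl 3) * y (Sum.inr 3)),
      x (Sum.inl 0) * y (Sum.inl 1) + y (Sum.inr 0) * x (Sum.inl 1)
        - (x (Sum.inr 2) * y (Sum.inr 3) - x (Sum.inr 3) * y (Sum.inr 2)),
      x (Sum.inl 0) * y (Sum.inl 2) + y (Sum.inr 0) * x (Sum.inl 2)
        - (x (Sum.inr 3) * y (Sum.inr 1) - x (Sum.inr 1) * y (Sum.inr 3)),
      x (Sum.inl 0) * y (Sum.inl 3) + y (Sum.inr 0) * x (Sum.inl 3)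
        - (x (Sum.inr 1) * y (Sum.inr 2) - x (Sum.inr 2) * y (Sum.inr 1))]
    ![x (Sum.inr 0) * y (Sum.inr 0)
        - (x (Sum.inr 1) * y (Sum.inl 1) + x (Sum.inr 2) * y (Sum.inl 2)
          + x (Sum.inr 3) * y (Sum.inl 3)),
      y (Sum.inl 0) * x (Sum.inr 1) + x (Sum.inr 0) * y (Sum.inr 1)
        - (x (Sum.inl 2) * y (Sum.inl 3) - x (Sum.inl 3) * y (Sum.inl 2)),
      y (Sum.inl 0) * x (Sum.inr 2) + x (Sum.inr 0) * y (Sum.inr 2)
        - (x (Sum.inl 3) * y (Sum.inl 1) - x (Sum.inl 1) * y (Sum.inl 3)),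
      y (Sum.inl 0) * x (Sum.inr 3) + x (Sum.inr 0) * y (Sum.inr 3)
        - (x (Sum.inl 1) * y (Sum.inl 2) - x (Sum.inl 2) * y (Sum.inl 1))]

/-- octonion conjugation -/
def oconj (x : OV F) : OV F :=
  Sum.elim ![x (Sum.inr 0), -x (Sum.inl 1), -x (Sum.inl 2), -x (Sum.inl 3)]
    ![x (Sum.inl 0), -x (Sum.inr 1), -x (Sum.inr 2), -x (Sum.inr 3)]

/-- the identity element -/
def oone : OV F := Sum.elim ![1, 0, 0, 0] ![1, 0, 0, 0]

/-- a primitive nilpotent octonion -/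
def u₀ : OV F := Sum.elim ![0, 1, 0, 0] ![0, 0, 0, 0]

theorem omul_inl0 (x y : OV F) : omul x y (Sum.inl 0) = x (Sum.inl 0) * y (Sum.inl 0)
    - (x (Sum.inl 1) * y (Sum.inr 1) + x (Sum.inl 2) * y (Sum.inr 2)
      + x (Sum.inl 3) * y (Sum.inr 3)) := rfl
theorem omul_inl1 (x y : OV F) : omul x y (Sum.inl 1) =
    x (Sum.inl 0) * y (Sum.inl 1) + y (Sum.inr 0) * x (Sum.inl 1)
      - (x (Sum.inr 2) * y (Sum.inr 3) - x (Sum.inr 3) * y (Sum.inr 2)) := rfl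
theorem omul_inl2 (x y : OV F) : omul x y (Sum.inl 2) =
    x (Sum.inl 0) * y (Sum.inl 2) + y (Sum.inr 0) * x (Sum.inl 2)
      - (x (Sum.inr 3) * y (Sum.inr 1) - x (Sum.inr 1) * y (Sum.inr 3)) := rfl
theorem omul_inl3 (x y : OV F) : omul x y (Sum.inl 3) =
    x (Sum.inl 0) * y (Sum.inl 3) + y (Sum.inr 0) * x (Sum.inl 3)
      - (x (Sum.inr 1) * y (Sum.inr 2) - x (Sum.inr 2) * y (Sum.inr 1)) := rfl
theorem omul_inr0 (x y : OV F) : omul x y (Sum.inr 0) = x (Sum.inr 0) * y (Sum.inr 0)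
    - (x (Sum.inr 1) * y (Sum.inl 1) + x (Sum.inr 2) * y (Sum.inl 2)
      + x (Sum.inr 3) * y (Sum.inl 3)) := rfl
theorem omul_inr1 (x y : OV F) : omul x y (Sum.inr 1) =
    y (Sum.inl 0) * x (Sum.inr 1) + x (Sum.inr 0) * y (Sum.inr 1)
      - (x (Sum.inl 2) * y (Sum.inl 3) - x (Sum.inl 3) * y (Sum.inl 2)) := rfl
theorem omul_inr2 (x y : OV F) : omul x y (Sum.inr 2) =
    y (Sum.inl 0) * x (Sum.inr 2) + x (Sum.inr 0) * y (Sum.inr 2)
      - (x (Sum.inl 3) * y (Sum.inl 1) - x (Sum.inl 1) * y (Sum.inl 3)) := rfl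
theorem omul_inr3 (x y : OV F) : omul x y (Sum.inr 3) =
    y (Sum.inl 0) * x (Sum.inr 3) + x (Sum.inr 0) * y (Sum.inr 3)
      - (x (Sum.inl 1) * y (Sum.inl 2) - x (Sum.inl 2) * y (Sum.inl 1)) := rfl

theorem oconj_inl0 (x : OV F) : oconj x (Sum.inl 0) = x (Sum.inr 0) := rfl
theorem oconj_inl1 (x : OV F) : oconj x (Sum.inl 1) = -x (Sum.inl 1) := rfl
theorem oconj_inl2 (x : OV F) : oconj x (Sum.inl 2) = -x (Sum.inl 2) := rfl
theorem oconj_inl3 (x : OV F) : oconj x (Sum.inl 3) = -x (Sum.inl 3) := rfl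
theorem oconj_inr0 (x : OV F) : oconj x (Sum.inr 0) = x (Sum.inl 0) := rfl
theorem oconj_inr1 (x : OV F) : oconj x (Sum.inr 1) = -x (Sum.inr 1) := rfl
theorem oconj_inr2 (x : OV F) : oconj x (Sum.inr 2) = -x (Sum.inr 2) := rfl
theorem oconj_inr3 (x : OV F) : oconj x (Sum.inr 3) = -x (Sum.inr 3) := rfl

theorem oone_inl0 : (oone : OV F) (Sum.inl 0) = 1 := rfl
theorem oone_inl1 : (oone : OV F) (Sum.inl 1) = 0 := rfl
theorem oone_inl2 : (oone : OV F) (Sum.inl 2) = 0 := rfl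
theorem oone_inl3 : (oone : OV F) (Sum.inl 3) = 0 := rfl
theorem oone_inr0 : (oone : OV F) (Sum.inr 0) = 1 := rfl
theorem oone_inr1 : (oone : OV F) (Sum.inr 1) = 0 := rfl
theorem oone_inr2 : (oone : OV F) (Sum.inr 2) = 0 := rfl
theorem oone_inr3 : (oone : OV F) (Sum.inr 3) = 0 := rfl

theorem u₀_inl0 : (u₀ : OV F) (Sum.inl 0) = 0 := rfl
theorem u₀_inl1 : (u₀ : OV F) (Sum.inl 1) = 1 := rfl
theorem u₀_inl2 : (u₀ : OV F) (Sum.inl 2) = 0 := rfl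
theorem u₀_inl3 : (u₀ : OV F) (Sum.inl 3) = 0 := rfl
theorem u₀_inr0 : (u₀ : OV F) (Sum.inr 0) = 0 := rfl
theorem u₀_inr1 : (u₀ : OV F) (Sum.inr 1) = 0 := rfl
theorem u₀_inr2 : (u₀ : OV F) (Sum.inr 2) = 0 := rfl
theorem u₀_inr3 : (u₀ : OV F) (Sum.inr 3) = 0 := rfl

/-- extensionality over the eight coordinates -/
theorem ov_ext {x y : OV F} (h0 : x (Sum.inl 0) = y (Sum.inl 0)) (h1 : x (Sum.inl 1) = y (Sum.inl 1))
    (h2 : x (Sum.inl 2) = y (Sum.inl 2)) (h3 : x (Sum.inl 3) = y (Sum.inl 3))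
    (k0 : x (Sum.inr 0) = y (Sum.inr 0)) (k1 : x (Sum.inr 1) = y (Sum.inr 1))
    (k2 : x (Sum.inr 2) = y (Sum.inr 2)) (k3 : x (Sum.inr 3) = y (Sum.inr 3)) : x = y := by
  funext i
  rcases i with i | i <;> fin_cases i <;> assumption

/-- the norm in coordinates -/
theorem N_eq (x : OV F) : stdPlus F 4 x = x (Sum.inl 0) * x (Sum.inr 0) + x (Sum.inl 1) * x (Sum.inr 1)
    + x (Sum.inl 2) * x (Sum.inr 2) + x (Sum.inl 3) * x (Sum.inr 3) := by
  rw [stdPlus_apply]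
  unfold Cfsg.quadFormPlus
  rw [Fin.sum_univ_four]

/-- the polar form in coordinates -/
theorem polar_eq (x y : OV F) : polar (stdPlus F 4) x y =
    x (Sum.inl 0) * y (Sum.inr 0) + y (Sum.inl 0) * x (Sum.inr 0)
    + (x (Sum.inl 1) * y (Sum.inr 1) + y (Sum.inl 1) * x (Sum.inr 1))
    + (x (Sum.inl 2) * y (Sum.inr 2) + y (Sum.inl 2) * x (Sum.inr 2))
    + (x (Sum.inl 3) * y (Sum.inr 3) + y (Sum.inl 3) * x (Sum.inr 3)) := by
  rw [polar_stdPlus, Fin.sum_univ_four]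

end Cfsg.Agent.Helper43.Tri
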