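import Mathlib
import Cfsg.Agent.Lib.Helper14.OrthAutCount

set_option autoImplicit false
set_option linter.unusedSectionVars false

namespace Cfsg.Agent.Helper43.TriCA

open Matrix QuadraticMap Cfsg.Agent.Helper13 Cfsg.Agent.Helper43 Cfsg.Agent.Helper5.OrthAut
open Cfsg.Agent.Helper43.OGam Cfsg.Agent.Helper16.OSemiAut Cfsg.Agent.Helper14.OrthAutCount

variable {F : Type*} [Field F] [Fintype F] {ι : Type} [Fintype ι] [DecidableEq ι]

theorem card_gamma (Q : QuadraticForm F (ι → F)) (hQ : (polarBilin Q).Nondegenerate) {k : ℕ}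
    (e f : Fin k → (ι → F)) (hef : IsHypFamily Q e f) (hk : 3 ≤ k) (hn : 5 ≤ Fintype.card ι)
    (hσ : ∀ σ : F ≃+* F, ∃ g : GL ι F, Cfsg.IsSemisimilarityPair (⇑Q) g σ) :
    Nat.card ↥(Cfsg.gammaPOmega F ⇑Q) =
      Nat.card (RingAut F) * Nat.card ↥(Cfsg.pgoAut F ⇑Q) := by
  have hι : Nonempty ι := by
    by_contra h
    rw [not_nonempty_iff] at h
    rw [Fintype.card_eq_zero] at hn
    omega
  have hker : (Theta ⇑Q).ker ≤ Lin ⇑Q := by
    intro L hL
    rw [MonoidHom.mem_ker] at hL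
    have h2 := (rigid Q hQ e f hef hk hn L hL (sig (⇑Q) L) (sig_spec (⇑Q) L)).2
    intro c x
    have h1 : (L : Equiv.Perm (ι → F)) (c • x) = sig (⇑Q) L c • (L : Equiv.Perm (ι → F)) x :=
      sig_spec (⇑Q) L c x
    rw [h1, h2]
  rw [← range_Theta (Q := ⇑Q)]
  set θ := (Theta ⇑Q).rangeRestrict with hθ
  have hθs : Function.Surjective θ := MonoidHom.rangeRestrict_surjective _
  have hkerθ : θ.ker ≤ Lin ⇑Q := by
    rw [hθ, MonoidHom.ker_rangeRestrict]; exact hker
  have hidx : ((Lin ⇑Q).map θ).index = Nat.card (RingAut F) := by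
    rw [Subgroup.index_map, sup_eq_left.mpr hkerθ, MonoidHom.range_eq_top.mpr hθs,
      Subgroup.index_top, mul_one, ← sigHom_ker, Subgroup.index_ker,
      MonoidHom.range_eq_top.mpr (sigHom_surjective (⇑Q) hσ), Subgroup.card_top]
  have hcard : Nat.card ((Lin ⇑Q).map θ) = Nat.card ↥(Cfsg.pgoAut F ⇑Q) := by
    rw [← map_Lin_eq_pgoAut]
    have : ((Lin ⇑Q).map θ).map (Theta ⇑Q).range.subtype = (Lin ⇑Q).map (Theta ⇑Q) := by
      rw [Subgroup.map_map]
      rfl
    rw [← this]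
    exact (Subgroup.card_map_of_injective (Subgroup.subtype_injective _)).symm
  rw [← Subgroup.index_mul_card ((Lin ⇑Q).map θ), hidx, hcard]

end Cfsg.Agent.Helper43.TriCA
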