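import Cfsg.Agent.Lib.Helper43.Tri.Main2
import Cfsg.Agent.Lib.Helper40.AutPOmBasic
import Cfsg.Agent.Lib.Helper43.OGam5

/-!
# Triality commutes with the standard field automorphisms; field classes of `PΩ⁺₈`
-/

set_option autoImplicit false
set_option linter.unusedSectionVars false
set_option linter.unusedVariables false

namespace Cfsg.Agent.Helper43.Tri

open Matrix QuadraticMap Cfsg.Agent.Helper13 Cfsg.Agent.Helper43 Cfsg.Agent.Helper5.OAut Module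
open Cfsg.Agent.Helper43.OGam Cfsg.Agent.Helper40.AutPOm Cfsg.Agent.Helper5.OrthAut

variable {F : Type*} [Field F]

/-- a field automorphism applied to the coordinates -/
def sigV (σ : F ≃+* F) (x : OV F) : OV F := fun i => σ (x i)

theorem sigV_apply (σ : F ≃+* F) (x : OV F) (i : Fin 4 ⊕ Fin 4) : sigV σ x i = σ (x i) := rfl

theorem sigV_symm (σ : F ≃+* F) (x : OV F) : sigV σ (sigV σ.symm x) = x := by
  funext i
  exact σ.apply_symm_apply (x i)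

/-- the octonion product has structure constants in the prime ring -/
theorem omul_sigV (σ : F ≃+* F) (x y : OV F) : omul (sigV σ x) (sigV σ y) = sigV σ (omul x y) := by
  apply ov_ext <;>
  simp only [omul_inl0, omul_inl1, omul_inl2, omul_inl3, omul_inr0, omul_inr1, omul_inr2, omul_inr3,
    sigV_apply, map_sub, map_add, map_mul]

theorem hQA4 (σ : F ≃+* F) : σ ∈ QAut (⇑(stdPlus F 4)) := qaut_plus 4 σ

theorem sigO_smul (σ : ↥(QAut (⇑(stdPlus F 4)))) (g : O8 F) (x : OV F) :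
    sigO (⇑(stdPlus F 4)) σ g • sigV σ.1 x = sigV σ.1 (g • x) := by
  show ((((g : GL (Fin 4 ⊕ Fin 4) F) : Matrix (Fin 4 ⊕ Fin 4) (Fin 4 ⊕ Fin 4) F)).map σ.1) *ᵥ
    (fun i => σ.1 (x i)) = _
  rw [map_mulVec_sigma]
  rfl

theorem Rel.sig (σ : ↥(QAut (⇑(stdPlus F 4)))) {g₀ g₁ g₂ : O8 F} (h : Rel g₀ g₁ g₂) :
    Rel (sigO (⇑(stdPlus F 4)) σ g₀) (sigO (⇑(stdPlus F 4)) σ g₁) (sigO (⇑(stdPlus F 4)) σ g₂) := by
  intro x y
  rw [← sigV_symm σ.1 x, ← sigV_symm σ.1 y, omul_sigV, sigO_smul, sigO_smul, sigO_smul, h, omul_sigV]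

variable [Fintype F]

/-- triality commutes with the standard field automorphisms -/
theorem tau_comm_field (τ : MulAut (Cfsg.POmega F ⇑(stdPlus F 4)))
    (hτrel : ∀ (g₀ g₁ : ↥(Cfsg.Omega F ⇑(stdPlus F 4))) (g₂ : O8 F),
      Rel (g₀ : O8 F) (g₁ : O8 F) g₂ → τ (prj (stdPlus F 4) g₀) = prj (stdPlus F 4) g₁)
    (hτex : ∀ g₀ : ↥(Cfsg.Omega F ⇑(stdPlus F 4)), ∃ (g₁ : ↥(Cfsg.Omega F ⇑(stdPlus F 4)))
      (g₂ : O8 F), Rel (g₀ : O8 F) (g₁ : O8 F) g₂)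
    (σ : ↥(QAut (⇑(stdPlus F 4)))) :
    τ * fieldAutPOm (⇑(stdPlus F 4)) σ = fieldAutPOm (⇑(stdPlus F 4)) σ * τ := by
  apply MulEquiv.ext
  intro x
  obtain ⟨g₀, rfl⟩ := QuotientGroup.mk_surjective x
  obtain ⟨g₁, g₂, hr⟩ := hτex g₀
  rw [MulAut.mul_apply, MulAut.mul_apply, fieldAutPOm_mk]
  have h1 : τ (QuotientGroup.mk g₀ : Cfsg.POmega F ⇑(stdPlus F 4)) = QuotientGroup.mk g₁ :=
    hτrel g₀ g₁ g₂ hr
  have h2 : τ (QuotientGroup.mk (sigOm (⇑(stdPlus F 4)) σ g₀) : Cfsg.POmega F ⇑(stdPlus F 4)) =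
      QuotientGroup.mk (sigOm (⇑(stdPlus F 4)) σ g₁) :=
    hτrel (sigOm (⇑(stdPlus F 4)) σ g₀) (sigOm (⇑(stdPlus F 4)) σ g₁)
      (sigO (⇑(stdPlus F 4)) σ g₂) (hr.sig σ)
  rw [h1, h2, fieldAutPOm_mk]

/-- the reflection in `1` as an element of the normaliser -/
noncomputable def r1NO : ↥(NO (⇑(stdPlus F 4))) :=
  ⟨((reflIso (stdPlus F 4) (N_oone_ne (F := F)) : O8 F) : GL (Fin 4 ⊕ Fin 4) F),
    sim_le_NO _ (iso_le_sim _ (reflIso (stdPlus F 4) (N_oone_ne (F := F)) : O8 F).2)⟩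

theorem rAut_eq_Phi : (rAut : MulAut (Cfsg.POmega F ⇑(stdPlus F 4))) =
    Phi (⇑(stdPlus F 4)) r1NO := by
  unfold rAut
  apply Theta_eq_Phi (⇑(stdPlus F 4)) _ r1NO 1
  intro x
  rw [one_smul]
  rfl

theorem sigV_oone (σ : F ≃+* F) : sigV σ (oone : OV F) = oone := by
  apply ov_ext <;>
  simp only [sigV_apply, oone_inl0, oone_inl1, oone_inl2, oone_inl3, oone_inr0, oone_inr1,
    oone_inr2, oone_inr3, map_one, map_zero]

theorem polar_sigV (σ : ↥(QAut (⇑(stdPlus F 4)))) (x y : OV F) :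
    polar (⇑(stdPlus F 4)) (sigV σ.1 x) (sigV σ.1 y) = σ.1 (polar (⇑(stdPlus F 4)) x y) := by
  simp only [polar_eq, sigV_apply, map_add, map_mul]

/-- the reflection in `1` is fixed by the field automorphisms -/
theorem sigmaNO_r1 (σ : ↥(QAut (⇑(stdPlus F 4)))) :
    sigmaNO (⇑(stdPlus F 4)) σ (r1NO (F := F)) = r1NO := by
  apply Subtype.ext
  apply Units.ext
  rw [sigmaNO_coe, mapGL_coe]
  show (Cfsg.reflectionMatrix (⇑(stdPlus F 4)) (oone : OV F)).map σ.1 =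
    Cfsg.reflectionMatrix (⇑(stdPlus F 4)) (oone : OV F)
  apply Cfsg.Agent.S0794.mat_ext_mulVec
  intro x
  rw [← sigV_symm σ.1 x]
  show ((Cfsg.reflectionMatrix (⇑(stdPlus F 4)) (oone : OV F)).map σ.1) *ᵥ
    (fun i => σ.1 (sigV σ.1.symm x i)) = _
  rw [map_mulVec_sigma, Cfsg.Agent.Helper13.reflectionMatrix_mulVec,
    Cfsg.Agent.Helper13.reflectionMatrix_mulVec]
  funext i
  have hp := polar_sigV σ (oone : OV F) (sigV σ.1.symm x)
  rw [sigV_oone] at hp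
  have hone : (stdPlus F 4) (oone : OV F) = 1 := N_oone
  simp only [Pi.sub_apply, Pi.smul_apply, smul_eq_mul, map_sub, map_mul, hone, inv_one,
    one_mul]
  rw [← sigV_apply σ.1 (sigV σ.1.symm x) i, ← sigV_apply σ.1 oone i, sigV_oone]
  congr 2
  exact hp.symm

theorem rAut_comm_field (σ : ↥(QAut (⇑(stdPlus F 4)))) :
    (rAut : MulAut (Cfsg.POmega F ⇑(stdPlus F 4))) * fieldAutPOm (⇑(stdPlus F 4)) σ =
      fieldAutPOm (⇑(stdPlus F 4)) σ * rAut := by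
  rw [rAut_eq_Phi, fieldAutPOm_mul_Phi, sigmaNO_r1]

/-- **field classes of `PΩ⁺₈`**: an automorphism conjugate in `Aut` to a standard field automorphism is
already conjugate to it under `PΓO` -/
theorem fieldClass_conj_gamma_std (x : MulAut (Cfsg.POmega F ⇑(stdPlus F 4)))
    (hx : Cfsg.IsFieldAutClassPOmega (⇑(stdPlus F 4)) x) :
    ∃ (γ φ : MulAut (Cfsg.POmega F ⇑(stdPlus F 4))) (σ : F ≃+* F),
      γ ∈ Cfsg.gammaPOmega F ⇑(stdPlus F 4) ∧ σ ≠ RingEquiv.refl F ∧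
      Cfsg.IsFieldAutPOmegaOf (⇑(stdPlus F 4)) σ φ ∧ γ * x * γ⁻¹ = φ := by
  obtain ⟨α, φ, σ, hσ, hφ, hα⟩ := hx
  obtain ⟨τ, hτrel, hτex, hcos⟩ := aut_cosets (F := F)
  have hφ' : φ = fieldAutPOm (⇑(stdPlus F 4)) ⟨σ, hQA4 σ⟩ :=
    (isFieldAutOf_iff (⇑(stdPlus F 4)) ⟨σ, hQA4 σ⟩ φ).1 hφ
  have hτφ : τ * φ = φ * τ := by rw [hφ']; exact tau_comm_field τ hτrel hτex _
  have hrφ : (rAut : MulAut (Cfsg.POmega F ⇑(stdPlus F 4))) * φ = φ * rAut := by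
    rw [hφ']; exact rAut_comm_field _
  rcases hcos α with h | h | h
  · exact ⟨α, φ, σ, h, hσ, hφ, hα⟩
  · refine ⟨τ⁻¹ * α, φ, σ, h, hσ, hφ, ?_⟩
    have : τ⁻¹ * α * x * (τ⁻¹ * α)⁻¹ = τ⁻¹ * (α * x * α⁻¹) * τ := by group
    rw [this, hα, mul_assoc, ← hτφ, inv_mul_cancel_left]
  · refine ⟨(rAut * τ)⁻¹ * α, φ, σ, h, hσ, hφ, ?_⟩
    have : (rAut * τ)⁻¹ * α * x * ((rAut * τ)⁻¹ * α)⁻¹ =
        (rAut * τ)⁻¹ * (α * x * α⁻¹) * (rAut * τ) := by group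
    have h2 : φ * (rAut * τ) = (rAut * τ) * φ := by
      rw [← mul_assoc, ← hrφ, mul_assoc, ← hτφ, mul_assoc]
    rw [this, hα, mul_assoc, h2, inv_mul_cancel_left]

/-- the same statement for `Cfsg.quadFormPlus 4 F` -/
theorem fieldClass_conj_gamma (x : MulAut (Cfsg.POmega F (Cfsg.quadFormPlus 4 F)))
    (hx : Cfsg.IsFieldAutClassPOmega (Cfsg.quadFormPlus 4 F) x) :
    ∃ (γ φ : MulAut (Cfsg.POmega F (Cfsg.quadFormPlus 4 F))) (σ : F ≃+* F),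
      γ ∈ Cfsg.gammaPOmega F (Cfsg.quadFormPlus 4 F) ∧ σ ≠ RingEquiv.refl F ∧
      Cfsg.IsFieldAutPOmegaOf (Cfsg.quadFormPlus 4 F) σ φ ∧ γ * x * γ⁻¹ = φ :=
  fieldClass_conj_gamma_std x hx

end Cfsg.Agent.Helper43.Tri
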