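import Mathlib

/-!
# An abstract index-three lemma
-/

set_option autoImplicit false

namespace Cfsg.Agent.Helper43.Tri

/-- a subgroup whose cosets are separated by a 3-valued function and which has three explicit distinct
cosets has index 3 -/
theorem index_eq_three {A : Type*} [Group A] (Γ : Subgroup A) (c : A → Fin 3)
    (hc : ∀ α β, c α = c β → β⁻¹ * α ∈ Γ)
    (τ r : A) (hτ : τ ∉ Γ) (hr : r ∈ Γ) (hrτ : τ⁻¹ * r * τ ∉ Γ) : Γ.index = 3 := by
  have hinj : Function.Injective (fun q : A ⧸ Γ => c q.out) := by
    intro q q' h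
    have h1 := hc _ _ h
    rw [← QuotientGroup.out_eq' q, ← QuotientGroup.out_eq' q']
    exact (QuotientGroup.eq.2 h1).symm
  have hfin : Finite (A ⧸ Γ) := Finite.of_injective _ hinj
  have hle : Nat.card (A ⧸ Γ) ≤ 3 := by
    have := Nat.card_le_card_of_injective _ hinj
    simpa using this
  have hge : 3 ≤ Nat.card (A ⧸ Γ) := by
    let g : Fin 3 → A ⧸ Γ := ![QuotientGroup.mk 1, QuotientGroup.mk τ, QuotientGroup.mk (r * τ)]
    have hg : Function.Injective g := by
      have h01 : (QuotientGroup.mk 1 : A ⧸ Γ) ≠ QuotientGroup.mk τ := by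
        intro h
        rw [QuotientGroup.eq] at h
        apply hτ
        simpa using h
      have h02 : (QuotientGroup.mk 1 : A ⧸ Γ) ≠ QuotientGroup.mk (r * τ) := by
        intro h
        rw [QuotientGroup.eq] at h
        apply hτ
        have h1 : r * τ ∈ Γ := by simpa using h
        have := Γ.mul_mem (Γ.inv_mem hr) h1
        simpa using this
      have h12 : (QuotientGroup.mk τ : A ⧸ Γ) ≠ QuotientGroup.mk (r * τ) := by
        intro h
        rw [QuotientGroup.eq] at h
        apply hrτ
        rw [mul_assoc]
        exact h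
      intro i j hij
      fin_cases i <;> fin_cases j <;> simp [g] at hij ⊢
      · exact absurd hij h01
      · exact absurd hij h02
      · exact absurd hij.symm h01
      · exact absurd hij h12
      · exact absurd hij.symm h02
      · exact absurd hij.symm h12
    have := Nat.card_le_card_of_injective _ hg
    simpa using this
  rw [Subgroup.index_eq_card]
  omega

/-- the three cosets cover the group -/
theorem cosets_three {A : Type*} [Group A] (Γ : Subgroup A) (c : A → Fin 3)
    (hc : ∀ α β, c α = c β → β⁻¹ * α ∈ Γ)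
    (τ r : A) (hτ : τ ∉ Γ) (hr : r ∈ Γ) (hrτ : τ⁻¹ * r * τ ∉ Γ) (α : A) :
    α ∈ Γ ∨ τ⁻¹ * α ∈ Γ ∨ (r * τ)⁻¹ * α ∈ Γ := by
  have h01 : c 1 ≠ c τ := by
    intro h
    have := hc τ 1 h.symm
    apply hτ
    simpa using this
  have h02 : c 1 ≠ c (r * τ) := by
    intro h
    have h1 := hc (r * τ) 1 h.symm
    have h2 : r * τ ∈ Γ := by simpa using h1
    apply hτ
    have := Γ.mul_mem (Γ.inv_mem hr) h2
    simpa using this
  have h12 : c τ ≠ c (r * τ) := by
    intro h
    have h1 := hc (r * τ) τ h.symm
    apply hrτ
    rw [mul_assoc]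
    exact h1
  have hcases : c α = c 1 ∨ c α = c τ ∨ c α = c (r * τ) := by
    generalize c α = a at *
    generalize c 1 = x at *
    generalize c τ = y at *
    generalize c (r * τ) = z at *
    revert a x y z
    decide
  rcases hcases with h | h | h
  · left
    have := hc α 1 h
    simpa using this
  · right; left
    exact hc α τ h
  · right; right
    exact hc α (r * τ) h

end Cfsg.Agent.Helper43.Tri
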