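import Cfsg.Agent.Lib.Helper43.Tri.Pieces
import Cfsg.Agent.Lib.Helper43.Tri.Idx
import Cfsg.Agent.Lib.Helper23.OAutBRC
import Cfsg.Agent.Lib.Helper5.OrthAut3

/-!
# Triality for `PΩ⁺₈(F)`: existence of an automorphism outside `PΓO`
-/

set_option autoImplicit false
set_option linter.unusedSectionVars false
set_option linter.unusedVariables false

namespace Cfsg.Agent.Helper43.Tri

open Matrix QuadraticMap Cfsg.Agent.Helper13 Cfsg.Agent.Helper43 Cfsg.Agent.Helper5.OAut Module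
open Cfsg.Agent.Helper43.OGam Cfsg.Agent.Helper43.TriSigs

variable {F : Type*} [Field F] [Fintype F]

theorem ctx4 : Ctx (stdPlus F 4) :=
  Cfsg.Agent.Helper23.OAutBR.ctx_of_hyp (stdPlus F 4) (stdPlus_nondegenerate F 4) _ _
    (stdPlus_isHypFamily F 4) (by norm_num)
    (by simp only [Fintype.card_sum, Fintype.card_fin]; norm_num)
    (Cfsg.Agent.Helper23.OAutBR.hspanPlus 4)

theorem card8 : Fintype.card (Fin 4 ⊕ Fin 4) = 8 := by
  simp only [Fintype.card_sum, Fintype.card_fin]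

theorem hperf4 : commutator ↥(Cfsg.Omega F ⇑(stdPlus F 4)) = ⊤ :=
  Cfsg.Agent.Helper5.OrthAut.hperf_of_hyp (stdPlus F 4) (stdPlus_nondegenerate F 4) _ _
    (stdPlus_isHypFamily F 4) (by norm_num) (by rw [card8]; norm_num)

theorem hsimple4 : IsSimpleGroup (Cfsg.POmega F ⇑(stdPlus F 4)) :=
  pomega_simple (stdPlus F 4) (stdPlus_nondegenerate F 4) _ _
    (stdPlus_isHypFamily F 4) (by norm_num) (by rw [card8]; norm_num)

/-- every element of `Ω` is the first component of a related triple -/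
theorem rel_of_mem_omega : ∀ g₀ ∈ Cfsg.Omega F ⇑(stdPlus F 4), ∃ g₁ g₂ : O8 F, Rel g₀ g₁ g₂ := by
  intro g₀ hg₀
  have h1 := omega_le_closure (F := F) hg₀
  have h2 : Subgroup.closure {g : O8 F | ∃ (a b : OV F)
      (ha : stdPlus F 4 a ≠ 0) (hb : stdPlus F 4 b ≠ 0), stdPlus F 4 b = stdPlus F 4 a ∧
      g = reflIso (stdPlus F 4) ha * reflIso (stdPlus F 4) hb} ≤ RelDom := by
    rw [Subgroup.closure_le]
    rintro g ⟨a, b, ha, hb, hab, rfl⟩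
    exact rel_refl_mul a b ha hb hab
  exact h2 h1

/-- **the triality automorphism**: an automorphism of `PΩ⁺₈(F)` not induced by a semisimilarity -/
theorem exists_triality :
    ∃ τ : MulAut (Cfsg.POmega F ⇑(stdPlus F 4)), τ ∉ Cfsg.gammaPOmega F ⇑(stdPlus F 4) ∧
      (∀ (g₀ g₁ : ↥(Cfsg.Omega F ⇑(stdPlus F 4))) (g₂ : O8 F),
        Rel (g₀ : O8 F) (g₁ : O8 F) g₂ → τ (prj (stdPlus F 4) g₀) = prj (stdPlus F 4) g₁) ∧
      ∀ g₀ : ↥(Cfsg.Omega F ⇑(stdPlus F 4)), ∃ (g₁ : ↥(Cfsg.Omega F ⇑(stdPlus F 4))) (g₂ : O8 F),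
        Rel (g₀ : O8 F) (g₁ : O8 F) g₂ := by
  classical
  have C : Ctx (stdPlus F 4) := ctx4
  have hex := exists_rel_omega (F := F) hperf4 rel_of_mem_omega
  have huniq : ∀ {g₀ g₁ g₂ g₁' g₂' : O8 F}, Rel g₀ g₁ g₂ → Rel g₀ g₁' g₂' →
      ∃ c : F, ∀ x : OV F, g₁' • x = c • (g₁ • x) := fun h h' => rel_unique nucleus h h'
  obtain ⟨τ, hτ⟩ := exists_tau C hex huniq
  obtain ⟨k₁, k₂, hk, hk₁⟩ := rel_special (F := F) C
  set g₀ : ↥(Cfsg.Omega F ⇑(stdPlus F 4)) := E (stdPlus F 4) u₀ (-oone) with hg₀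
  obtain ⟨g₁, hg₁Ω, g₂, hg⟩ := hex (g₀ : O8 F) g₀.2
  obtain ⟨c, hc⟩ := huniq hk hg
  have hτg : τ (prj (stdPlus F 4) g₀) = prj (stdPlus F 4) ⟨g₁, hg₁Ω⟩ := hτ g₀ ⟨g₁, hg₁Ω⟩ g₂ hg
  have hspec : ∀ x : OV F, ((⟨g₁, hg₁Ω⟩ : ↥(Cfsg.Omega F ⇑(stdPlus F 4))) : O8 F) • x =
      c • (x + omul u₀ x) := by
    intro x
    rw [← hk₁ x]
    exact hc x
  have hnot : ∀ u' : OV F, u' ≠ 0 → stdPlus F 4 u' = 0 →
      τ (prj (stdPlus F 4) g₀) ∉ Qb (stdPlus F 4) u' := by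
    intro u' hu'0 hu'
    rw [hτg]
    exact special_not_mem_Qb C ⟨g₁, hg₁Ω⟩ c hspec u' hu'0 hu'
  -- injectivity
  have hinj : Function.Injective τ := by
    have hs : IsSimpleGroup (Cfsg.POmega F ⇑(stdPlus F 4)) := hsimple4
    rcases hs.eq_bot_or_eq_top_of_normal τ.ker inferInstance with h | h
    · exact (MonoidHom.ker_eq_bot_iff τ).1 h
    · exfalso
      have h1 : prj (stdPlus F 4) g₀ ∈ τ.ker := by rw [h]; exact Subgroup.mem_top _
      rw [MonoidHom.mem_ker] at h1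
      apply hnot u₀ u₀_ne_zero N_u₀
      rw [h1]
      exact Subgroup.one_mem _
  have hbij : Function.Bijective τ := ⟨hinj, Finite.injective_iff_surjective.1 hinj⟩
  refine ⟨MulEquiv.ofBijective τ hbij, ?_, fun a b d hr => hτ a b d hr, fun a => ?_⟩
  swap
  · obtain ⟨b, hb, d, hr⟩ := hex (a : O8 F) a.2
    exact ⟨⟨b, hb⟩, d, hr⟩
  intro hmem
  obtain ⟨u', hu'0, hu', hmap⟩ := gamma_maps_Qb C (MulEquiv.ofBijective τ hbij) hmem
    u₀_ne_zero N_u₀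
  have hp : polar (⇑(stdPlus F 4)) (u₀ : OV F) (-oone) = 0 := by
    rw [polar_neg_right, polar_u₀_oone, neg_zero]
  have h1 : prj (stdPlus F 4) g₀ ∈ Qb (stdPlus F 4) (u₀ : OV F) :=
    ⟨g₀, E_mem_Qrad hp, rfl⟩
  have h2 : τ (prj (stdPlus F 4) g₀) ∈ Qb (stdPlus F 4) u' := by
    rw [← hmap]
    exact ⟨_, h1, rfl⟩
  exact hnot u' hu'0 hu' h2

end Cfsg.Agent.Helper43.Tri
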