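import Cfsg.Agent.Lib.Helper43.Tri.Main1
import Cfsg.Agent.S2631

/-!
# Triality for `PΩ⁺₈(F)`: `[Aut(PΩ⁺₈) : PΓO⁺₈] = 3`
-/

set_option autoImplicit false
set_option linter.unusedSectionVars false
set_option linter.unusedVariables false

namespace Cfsg.Agent.Helper43.Tri

open Matrix QuadraticMap Cfsg.Agent.Helper13 Cfsg.Agent.Helper43 Cfsg.Agent.Helper5.OAut Module
open Cfsg.Agent.Helper43.OGam Cfsg.Agent.Helper43.TriSigs Cfsg.Agent.Helper36.TotSing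

variable {F : Type*} [Field F] [Fintype F]

theorem wi3_4 : Cfsg.Agent.Helper13.OrthPermA.WI3 (stdPlus F 4) :=
  Cfsg.Agent.Helper13.OrthPermE.wi3_plus (by norm_num)

theorem hV8 : finrank F (OV F) = 2 * 4 := by
  rw [Module.finrank_fintype_fun_eq_card, card8]

theorem mts_of_selfperp (Y : Submodule F (OV F)) (hY : ∀ y ∈ Y, stdPlus F 4 y = 0)
    (hYY : ∀ x : OV F, (∀ y ∈ Y, polar (⇑(stdPlus F 4)) y x = 0) → x ∈ Y) : MTS Y := by
  have := Cfsg.Agent.Helper13.OrthPermE.two_mul_finrank wi3_4 Y hY hYY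
  rw [card8] at this
  exact ⟨by omega, hY⟩

theorem selfperp_of_mts {Y : Submodule F (OV F)} (hY : MTS Y) :
    ∀ x : OV F, (∀ y ∈ Y, polar (⇑(stdPlus F 4)) y x = 0) → x ∈ Y := by
  intro x hx
  apply (Cfsg.Agent.Helper36.DicksonDet.isQF_of (stdPlus F 4)).mem_of_ortho
    (stdPlus_nondegenerate F 4) hV8 hY
  intro u hu
  rw [polarBilin_apply_apply]
  exact hx u hu

theorem mts_map (g : O8 F) {Y : Submodule F (OV F)} (hY : MTS Y) :
    MTS (Y.map (Matrix.mulVecLin ((g : GL (Fin 4 ⊕ Fin 4) F) : Matrix _ _ F))) := by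
  constructor
  · rw [Cfsg.Agent.Helper36.OmegaTrans.mulVecLin_eq, LinearEquiv.finrank_map_eq]
    exact hY.1
  · rintro _ ⟨y, hy, rfl⟩
    have := O_Q_smul (stdPlus F 4) g y
    rw [O_smul_def] at this
    show stdPlus F 4 (((g : GL (Fin 4 ⊕ Fin 4) F) : Matrix _ _ F) *ᵥ y) = 0
    rw [this]
    exact hY.2 y hy

/-- three-term parity for the classes -/
theorem sameCl_parity {U W X : Submodule F (OV F)} (hU : MTS U) (hW : MTS W) (hX : MTS X) :
    Even ((4 - finrank F ↥(U ⊓ W)) + (4 - finrank F ↥(W ⊓ X)) + (4 - finrank F ↥(U ⊓ X))) :=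
  (Cfsg.Agent.Helper36.DicksonDet.isQF_of (stdPlus F 4)).parity' (stdPlus_nondegenerate F 4) hV8
    hU hW hX

/-- `Ω` is transitive on each class -/
theorem omega_trans {Y Y' : Submodule F (OV F)} (hY : MTS Y) (hY' : MTS Y') (h : SameCl Y Y') :
    ∃ g : O8 F, g ∈ Cfsg.Omega F ⇑(stdPlus F 4) ∧
      Y.map (Matrix.mulVecLin ((g : GL (Fin 4 ⊕ Fin 4) F) : Matrix _ _ F)) = Y' :=
  Cfsg.Agent.S2631.result (F := F) (m := 4) (by norm_num) (Or.inr (by norm_num)) Y Y' hY.1 hY'.1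
    hY.2 hY'.2 h

/-- `Ω` is transitive on singular points -/
theorem exists_move (C : Ctx (stdPlus F 4)) {u u' : OV F} (hu0 : u ≠ 0) (hu : stdPlus F 4 u = 0)
    (hu'0 : u' ≠ 0) (hu' : stdPlus F 4 u' = 0) :
    ∃ (g : ↥(Cfsg.Omega F ⇑(stdPlus F 4))) (c : F), c ≠ 0 ∧ act (stdPlus F 4) g u = c • u' := by
  obtain ⟨v, hv, huv⟩ := exists_partner C hu0 hu
  obtain ⟨v', hv', huv'⟩ := exists_partner C hu'0 hu'
  obtain ⟨g, c, d, hc, hd, h1, h2⟩ := Cfsg.Agent.Helper13.OAutNG.NG_move C hu'0 hu' hv'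
    (by rw [huv']; exact one_ne_zero) hu0 hu hv (by rw [huv]; exact one_ne_zero)
  exact ⟨g, c, hc, h1⟩

section grp

variable {G : Type*} [Group G]

theorem map_mul_aut (K : Subgroup G) (a b : MulAut G) :
    K.map ((a * b : MulAut G) : G ≃* G).toMonoidHom =
      (K.map (b : G ≃* G).toMonoidHom).map (a : G ≃* G).toMonoidHom := by
  rw [Subgroup.map_map]
  rfl

theorem map_one_aut (K : Subgroup G) : K.map ((1 : MulAut G) : G ≃* G).toMonoidHom = K := by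
  ext x
  constructor
  · rintro ⟨y, hy, rfl⟩
    exact hy
  · intro hx
    exact ⟨x, hx, rfl⟩

theorem map_inv_aut {K K' : Subgroup G} (a : MulAut G)
    (h : K.map (a : G ≃* G).toMonoidHom = K') :
    K'.map ((a⁻¹ : MulAut G) : G ≃* G).toMonoidHom = K := by
  rw [← h, ← map_mul_aut, inv_mul_cancel, map_one_aut]

theorem conj_aut (a : MulAut G) (x : G) : a * MulAut.conj x * a⁻¹ = MulAut.conj (a x) := by
  apply MulEquiv.ext
  intro y
  simp only [MulAut.mul_apply, MulAut.conj_apply, map_mul, map_inv, MulAut.apply_inv_self]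

end grp

/-- inner automorphisms as `Theta` of an isometry in `Ω` -/
theorem Theta_isoGam_omega (g : ↥(Cfsg.Omega F ⇑(stdPlus F 4))) :
    Theta (⇑(stdPlus F 4)) (Cfsg.Agent.Helper43.OMin.isoGam (⇑(stdPlus F 4)) (g : O8 F)) =
      MulAut.conj (prj (stdPlus F 4) g) := by
  have := Cfsg.Agent.Helper43.OMin.Theta_of_omega (⇑(stdPlus F 4))
    (Cfsg.Agent.Helper43.OMin.isoGam (⇑(stdPlus F 4)) (g : O8 F)) g 1
    (fun x => by rw [one_smul]; rfl)
  rw [this]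
  rfl

theorem conj_mem_gamma (x : Cfsg.POmega F ⇑(stdPlus F 4)) :
    MulAut.conj x ∈ Cfsg.gammaPOmega F ⇑(stdPlus F 4) :=
  Cfsg.Agent.Helper16.OSemiAut.inn_le_gamma (stdPlus F 4) ⟨x, rfl⟩

theorem N_oone_ne : stdPlus F 4 (oone : OV F) ≠ 0 := by rw [N_oone]; exact one_ne_zero

/-- the graph automorphism induced by the reflection in `1` -/
noncomputable def rAut : MulAut (Cfsg.POmega F ⇑(stdPlus F 4)) :=
  Theta (⇑(stdPlus F 4)) (Cfsg.Agent.Helper43.OMin.isoGam (⇑(stdPlus F 4))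
    (reflIso (stdPlus F 4) (N_oone_ne (F := F))))

theorem rAut_mem : (rAut : MulAut (Cfsg.POmega F ⇑(stdPlus F 4))) ∈
    Cfsg.gammaPOmega F ⇑(stdPlus F 4) := Theta_mem_gamma _ _

set_option maxHeartbeats 3200000 in
/-- the triality automorphism, together with the colouring of `Aut(PΩ⁺₈)` by the three classes -/
theorem triality_data :
    ∃ (τ : MulAut (Cfsg.POmega F ⇑(stdPlus F 4)))
      (c : MulAut (Cfsg.POmega F ⇑(stdPlus F 4)) → Fin 3),
      τ ∉ Cfsg.gammaPOmega F ⇑(stdPlus F 4) ∧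
      (∀ (g₀ g₁ : ↥(Cfsg.Omega F ⇑(stdPlus F 4))) (g₂ : O8 F),
        Rel (g₀ : O8 F) (g₁ : O8 F) g₂ → τ (prj (stdPlus F 4) g₀) = prj (stdPlus F 4) g₁) ∧
      (∀ g₀ : ↥(Cfsg.Omega F ⇑(stdPlus F 4)), ∃ (g₁ : ↥(Cfsg.Omega F ⇑(stdPlus F 4)))
        (g₂ : O8 F), Rel (g₀ : O8 F) (g₁ : O8 F) g₂) ∧
      (∀ α β, c α = c β → β⁻¹ * α ∈ Cfsg.gammaPOmega F ⇑(stdPlus F 4)) ∧
      τ⁻¹ * rAut * τ ∉ Cfsg.gammaPOmega F ⇑(stdPlus F 4) := by
  classical
  have C : Ctx (stdPlus F 4) := ctx4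
  obtain ⟨τ, hτ, hτrel, hτex⟩ := exists_triality (F := F)
  -- the image of the reference point radical
  set s : MulAut (Cfsg.POmega F ⇑(stdPlus F 4)) → Subgroup (Cfsg.POmega F ⇑(stdPlus F 4)) :=
    fun α => (Qb (stdPlus F 4) (u₀ : OV F)).map
      (α : Cfsg.POmega F ⇑(stdPlus F 4) ≃* Cfsg.POmega F ⇑(stdPlus F 4)).toMonoidHom with hs
  have s_mul : ∀ a b : MulAut (Cfsg.POmega F ⇑(stdPlus F 4)),
      s (a * b) = (s b).map (a : Cfsg.POmega F ⇑(stdPlus F 4) ≃* _).toMonoidHom :=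
    fun a b => map_mul_aut _ a b
  let T0 : MulAut (Cfsg.POmega F ⇑(stdPlus F 4)) → Prop := fun α =>
    ∃ u' : OV F, u' ≠ 0 ∧ stdPlus F 4 u' = 0 ∧ s α = Qb (stdPlus F 4) u'
  have hP : ∀ α, T0 α ∨ ∃ Y : Submodule F (OV F), MTS Y ∧ s α = Zb (stdPlus F 4) Y := by
    intro α
    rcases thP'_Qb C (fun α' _ hu0' hu' => thP' wi3_4 α' hu0' hu') α u₀_ne_zero N_u₀ with h | h
    · exact Or.inl h
    · obtain ⟨Y, hY, hYY, hsY⟩ := h
      exact Or.inr ⟨Y, mts_of_selfperp Y hY hYY, hsY⟩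
  have h0 : ∀ α, T0 α → α ∈ Cfsg.gammaPOmega F ⇑(stdPlus F 4) := by
    rintro α ⟨u', hu'0, hu', h⟩
    exact mem_gamma_of_Qb C α u₀_ne_zero N_u₀ hu'0 hu' h
  have h0' : ∀ α, α ∈ Cfsg.gammaPOmega F ⇑(stdPlus F 4) → T0 α := by
    intro α hα
    exact gamma_maps_Qb C α hα u₀_ne_zero N_u₀
  obtain ⟨Y₁, hY₁, hsτ⟩ : ∃ Y : Submodule F (OV F), MTS Y ∧ s τ = Zb (stdPlus F 4) Y :=
    (hP τ).resolve_left (fun h => hτ (h0 τ h))
  let T1 : MulAut (Cfsg.POmega F ⇑(stdPlus F 4)) → Prop := fun α =>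
    ∃ Y : Submodule F (OV F), MTS Y ∧ SameCl Y₁ Y ∧ s α = Zb (stdPlus F 4) Y
  let T2 : MulAut (Cfsg.POmega F ⇑(stdPlus F 4)) → Prop := fun α =>
    ∃ Y : Submodule F (OV F), MTS Y ∧ ¬ SameCl Y₁ Y ∧ s α = Zb (stdPlus F 4) Y
  have hT : ∀ α, ¬ T0 α → ¬ T1 α → T2 α := by
    intro α h0n h1n
    obtain ⟨Y, hY, hsY⟩ := (hP α).resolve_left h0n
    refine ⟨Y, hY, ?_, hsY⟩
    intro hcl
    exact h1n ⟨Y, hY, hcl, hsY⟩
  -- the key coset lemma
  have key : ∀ (α β : MulAut (Cfsg.POmega F ⇑(stdPlus F 4))) (Y Y' : Submodule F (OV F)),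
      MTS Y → MTS Y' → SameCl Y Y' → s α = Zb (stdPlus F 4) Y → s β = Zb (stdPlus F 4) Y' →
      β⁻¹ * α ∈ Cfsg.gammaPOmega F ⇑(stdPlus F 4) := by
    intro α β Y Y' hY hY' hcl hα hβ
    obtain ⟨g, hgΩ, hgY⟩ := omega_trans hY hY' hcl
    set γ : MulAut (Cfsg.POmega F ⇑(stdPlus F 4)) :=
      MulAut.conj (prj (stdPlus F 4) ⟨g, hgΩ⟩) with hγ
    have hγZ : (Zb (stdPlus F 4) Y).map
        (γ : Cfsg.POmega F ⇑(stdPlus F 4) ≃* _).toMonoidHom = Zb (stdPlus F 4) Y' := by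
      rw [hγ, ← Theta_isoGam_omega ⟨g, hgΩ⟩, Zb_map_iso C g Y hY.2, hgY]
    have h1 : s (β⁻¹ * (γ * α)) = Qb (stdPlus F 4) (u₀ : OV F) := by
      rw [s_mul, s_mul, hα, hγZ, ← hβ]
      exact map_inv_aut β rfl
    have h2 : β⁻¹ * (γ * α) ∈ Cfsg.gammaPOmega F ⇑(stdPlus F 4) :=
      h0 _ ⟨u₀, u₀_ne_zero, N_u₀, h1⟩
    have h3 : β⁻¹ * γ⁻¹ * β ∈ Cfsg.gammaPOmega F ⇑(stdPlus F 4) := by
      have h4 : β⁻¹ * γ⁻¹ * β = MulAut.conj (β⁻¹ (prj (stdPlus F 4) ⟨g, hgΩ⟩)⁻¹) := by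
        have := conj_aut β⁻¹ (prj (stdPlus F 4) ⟨g, hgΩ⟩)⁻¹
        rw [inv_inv] at this
        rw [← this, hγ, map_inv]
      rw [h4]
      exact conj_mem_gamma _
    have h5 : β⁻¹ * α = (β⁻¹ * γ⁻¹ * β) * (β⁻¹ * (γ * α)) := by group
    rw [h5]
    exact Subgroup.mul_mem _ h3 h2
  -- the colouring
  let c : MulAut (Cfsg.POmega F ⇑(stdPlus F 4)) → Fin 3 := fun α =>
    if T0 α then 0 else if T1 α then 1 else 2
  have hc : ∀ α β, c α = c β → β⁻¹ * α ∈ Cfsg.gammaPOmega F ⇑(stdPlus F 4) := by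
    intro α β hαβ
    by_cases a0 : T0 α
    · have b0 : T0 β := by
        by_contra b0
        have h1 : c α = 0 := if_pos a0
        have h2 : c β ≠ 0 := by
          show (if T0 β then (0 : Fin 3) else if T1 β then 1 else 2) ≠ 0
          rw [if_neg b0]
          split_ifs <;> decide
        exact h2 (hαβ ▸ h1)
      exact Subgroup.mul_mem _ (Subgroup.inv_mem _ (h0 β b0)) (h0 α a0)
    · have b0 : ¬ T0 β := by
        intro b0
        have h1 : c β = 0 := if_pos b0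
        have h2 : c α ≠ 0 := by
          show (if T0 α then (0 : Fin 3) else if T1 α then 1 else 2) ≠ 0
          rw [if_neg a0]
          split_ifs <;> decide
        exact h2 (hαβ.trans h1)
      by_cases a1 : T1 α
      · have b1 : T1 β := by
          by_contra b1
          have h1 : c α = 1 := by
            show (if T0 α then (0 : Fin 3) else if T1 α then 1 else 2) = 1
            rw [if_neg a0, if_pos a1]
          have h2 : c β = 2 := by
            show (if T0 β then (0 : Fin 3) else if T1 β then 1 else 2) = 2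
            rw [if_neg b0, if_neg b1]
          rw [h1, h2] at hαβ
          exact absurd hαβ (by decide)
        obtain ⟨Y, hY, hcl, hsY⟩ := a1
        obtain ⟨Y', hY', hcl', hsY'⟩ := b1
        have hpar := sameCl_parity hY₁ hY hY'
        have hcl'' : SameCl Y Y' := by
          unfold SameCl at hcl hcl' ⊢
          rw [Nat.even_add, Nat.even_add] at hpar
          tauto
        exact key α β Y Y' hY hY' hcl'' hsY hsY'
      · have b1 : ¬ T1 β := by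
          intro b1
          have h1 : c α = 2 := by
            show (if T0 α then (0 : Fin 3) else if T1 α then 1 else 2) = 2
            rw [if_neg a0, if_neg a1]
          have h2 : c β = 1 := by
            show (if T0 β then (0 : Fin 3) else if T1 β then 1 else 2) = 1
            rw [if_neg b0, if_pos b1]
          rw [h1, h2] at hαβ
          exact absurd hαβ (by decide)
        obtain ⟨Y, hY, hcl, hsY⟩ := hT α a0 a1
        obtain ⟨Y', hY', hcl', hsY'⟩ := hT β b0 b1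
        have hpar := sameCl_parity hY₁ hY hY'
        have hcl'' : SameCl Y Y' := by
          unfold SameCl at hcl hcl' ⊢
          rw [Nat.even_add, Nat.even_add] at hpar
          tauto
        exact key α β Y Y' hY hY' hcl'' hsY hsY'
  -- the reflection
  have ha : stdPlus F 4 (oone : OV F) ≠ 0 := N_oone_ne
  set r : MulAut (Cfsg.POmega F ⇑(stdPlus F 4)) := rAut with hr
  have hr' : r = Theta (⇑(stdPlus F 4)) (Cfsg.Agent.Helper43.OMin.isoGam (⇑(stdPlus F 4))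
      (reflIso (stdPlus F 4) ha)) := rfl
  have hrτ : τ⁻¹ * r * τ ∉ Cfsg.gammaPOmega F ⇑(stdPlus F 4) := by
    intro hmem
    obtain ⟨u', hu'0, hu', hsu'⟩ := h0' _ hmem
    obtain ⟨g, d, hd, hgu⟩ := exists_move C u₀_ne_zero N_u₀ hu'0 hu'
    have h1 : Qb (stdPlus F 4) u' =
        s (MulAut.conj (prj (stdPlus F 4) g)) := by
      show _ = (Qb (stdPlus F 4) (u₀ : OV F)).map _
      rw [Qb_conj C N_u₀ g, hgu, Qb_smul C hu' hd]
    have h2 : s (r * τ) = s (τ * MulAut.conj (prj (stdPlus F 4) g)) := by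
      have h3 : r * τ = τ * (τ⁻¹ * r * τ) := by group
      rw [h3, s_mul τ (τ⁻¹ * r * τ), hsu', h1, ← s_mul]
    obtain ⟨g', hg'⟩ := prj_surjective (Q := stdPlus F 4) (τ (prj (stdPlus F 4) g))
    have h4 : τ * MulAut.conj (prj (stdPlus F 4) g) =
        MulAut.conj (prj (stdPlus F 4) g') * τ := by
      have := conj_aut τ (prj (stdPlus F 4) g)
      rw [hg', ← this]
      group
    rw [h4, s_mul, s_mul, hsτ, ← Theta_isoGam_omega g', hr', Zb_map_iso C _ Y₁ hY₁.2,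
      Zb_map_iso C _ Y₁ hY₁.2] at h2
    have hm1 := mts_map (reflIso (stdPlus F 4) ha : O8 F) hY₁
    have hm2 := mts_map (g' : O8 F) hY₁
    have hle := Zb_le_imp_le C _ _ hm1.2 hm2.2 (selfperp_of_mts hm2)
      (by rw [hm1.1]; norm_num) (by rw [hm2.1]; norm_num) (le_of_eq h2)
    have heq := Submodule.eq_of_le_of_finrank_eq hle (by rw [hm1.1, hm2.1])
    obtain ⟨hΩ, hR⟩ := sameCl_omega_refl Y₁ hY₁
    apply hR oone ha
    rw [heq]
    exact hΩ (g' : O8 F) g'.2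
  exact ⟨τ, c, hτ, hτrel, hτex, hc, hrτ⟩

/-- **`[Aut(PΩ⁺₈(F)) : PΓO⁺₈(F)] = 3`** -/
theorem index_gamma : (Cfsg.gammaPOmega F ⇑(stdPlus F 4)).index = 3 := by
  obtain ⟨τ, c, hτ, -, -, hc, hrτ⟩ := triality_data (F := F)
  exact index_eq_three _ c hc τ rAut hτ rAut_mem hrτ

/-- `Aut(PΩ⁺₈(F)) = PΓO ∪ τ PΓO ∪ r τ PΓO` for the triality `τ` and the reflection `r` -/
theorem aut_cosets :
    ∃ τ : MulAut (Cfsg.POmega F ⇑(stdPlus F 4)),
      (∀ (g₀ g₁ : ↥(Cfsg.Omega F ⇑(stdPlus F 4))) (g₂ : O8 F),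
        Rel (g₀ : O8 F) (g₁ : O8 F) g₂ → τ (prj (stdPlus F 4) g₀) = prj (stdPlus F 4) g₁) ∧
      (∀ g₀ : ↥(Cfsg.Omega F ⇑(stdPlus F 4)), ∃ (g₁ : ↥(Cfsg.Omega F ⇑(stdPlus F 4)))
        (g₂ : O8 F), Rel (g₀ : O8 F) (g₁ : O8 F) g₂) ∧
      ∀ α : MulAut (Cfsg.POmega F ⇑(stdPlus F 4)),
        α ∈ Cfsg.gammaPOmega F ⇑(stdPlus F 4) ∨ τ⁻¹ * α ∈ Cfsg.gammaPOmega F ⇑(stdPlus F 4) ∨
          (rAut * τ)⁻¹ * α ∈ Cfsg.gammaPOmega F ⇑(stdPlus F 4) := by
  obtain ⟨τ, c, hτ, hτrel, hτex, hc, hrτ⟩ := triality_data (F := F)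
  exact ⟨τ, hτrel, hτex, cosets_three _ c hc τ rAut hτ rAut_mem hrτ⟩

end Cfsg.Agent.Helper43.Tri
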