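import Cfsg.Agent.Lib.Helper43.Tri.Defs

/-!
# Triality for `PΩ⁺₈(F)`: identities of the split octonion algebra
-/

set_option autoImplicit false
set_option linter.unusedSectionVars false

namespace Cfsg.Agent.Helper43.Tri

open Matrix QuadraticMap Cfsg.Agent.Helper13 Cfsg.Agent.Helper43 Cfsg.Agent.Helper5.OAut Module

variable {F : Type*} [Field F]

theorem omul_add_left (x x' y : OV F) : omul (x + x') y = omul x y + omul x' y := by
  apply ov_ext <;>
  simp only [omul_inl0, omul_inl1, omul_inl2, omul_inl3, omul_inr0, omul_inr1, omul_inr2, omul_inr3,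
    Pi.add_apply] <;> ring

theorem omul_add_right (x y y' : OV F) : omul x (y + y') = omul x y + omul x y' := by
  apply ov_ext <;>
  simp only [omul_inl0, omul_inl1, omul_inl2, omul_inl3, omul_inr0, omul_inr1, omul_inr2, omul_inr3,
    Pi.add_apply] <;> ring

theorem omul_smul_left (c : F) (x y : OV F) : omul (c • x) y = c • omul x y := by
  apply ov_ext <;>
  simp only [omul_inl0, omul_inl1, omul_inl2, omul_inl3, omul_inr0, omul_inr1, omul_inr2, omul_inr3,
    Pi.smul_apply, smul_eq_mul] <;> ring

theorem omul_smul_right (c : F) (x y : OV F) : omul x (c • y) = c • omul x y := by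
  apply ov_ext <;>
  simp only [omul_inl0, omul_inl1, omul_inl2, omul_inl3, omul_inr0, omul_inr1, omul_inr2, omul_inr3,
    Pi.smul_apply, smul_eq_mul] <;> ring

theorem omul_zero_left (y : OV F) : omul 0 y = 0 := by
  have := omul_smul_left (0 : F) 0 y
  simpa using this

theorem omul_zero_right (x : OV F) : omul x 0 = 0 := by
  have := omul_smul_right (0 : F) x 0
  simpa using this

theorem omul_neg_left (x y : OV F) : omul (-x) y = -omul x y := by
  have := omul_smul_left (-1 : F) x y
  simpa using this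

theorem omul_neg_right (x y : OV F) : omul x (-y) = -omul x y := by
  have := omul_smul_right (-1 : F) x y
  simpa using this

theorem omul_sub_left (x x' y : OV F) : omul (x - x') y = omul x y - omul x' y := by
  rw [sub_eq_add_neg, omul_add_left, omul_neg_left, ← sub_eq_add_neg]

theorem omul_sub_right (x y y' : OV F) : omul x (y - y') = omul x y - omul x y' := by
  rw [sub_eq_add_neg, omul_add_right, omul_neg_right, ← sub_eq_add_neg]

theorem oone_omul (x : OV F) : omul oone x = x := by
  apply ov_ext <;>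
  simp only [omul_inl0, omul_inl1, omul_inl2, omul_inl3, omul_inr0, omul_inr1, omul_inr2, omul_inr3,
    oone_inl0, oone_inl1, oone_inl2, oone_inl3, oone_inr0, oone_inr1, oone_inr2, oone_inr3] <;> ring

theorem omul_oone (x : OV F) : omul x oone = x := by
  apply ov_ext <;>
  simp only [omul_inl0, omul_inl1, omul_inl2, omul_inl3, omul_inr0, omul_inr1, omul_inr2, omul_inr3,
    oone_inl0, oone_inl1, oone_inl2, oone_inl3, oone_inr0, oone_inr1, oone_inr2, oone_inr3] <;> ring

theorem N_oone : stdPlus F 4 (oone : OV F) = 1 := by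
  simp only [N_eq, oone_inl0, oone_inl1, oone_inl2, oone_inl3, oone_inr0, oone_inr1, oone_inr2,
    oone_inr3]
  ring

theorem N_u₀ : stdPlus F 4 (u₀ : OV F) = 0 := by
  simp only [N_eq, u₀_inl0, u₀_inl1, u₀_inl2, u₀_inl3, u₀_inr0, u₀_inr1, u₀_inr2, u₀_inr3]
  ring

theorem polar_u₀_oone : polar (stdPlus F 4) (u₀ : OV F) oone = 0 := by
  simp only [polar_eq, u₀_inl0, u₀_inl1, u₀_inl2, u₀_inl3, u₀_inr0, u₀_inr1, u₀_inr2, u₀_inr3,
    oone_inl0, oone_inl1, oone_inl2, oone_inl3, oone_inr0, oone_inr1, oone_inr2, oone_inr3]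
  ring

theorem u₀_ne_zero : (u₀ : OV F) ≠ 0 := by
  intro h
  have := congrFun h (Sum.inl 1)
  rw [u₀_inl1] at this
  exact one_ne_zero this

theorem omul_u₀_u₀ : omul (u₀ : OV F) u₀ = 0 := by
  apply ov_ext <;>
  simp only [omul_inl0, omul_inl1, omul_inl2, omul_inl3, omul_inr0, omul_inr1, omul_inr2, omul_inr3,
    u₀_inl0, u₀_inl1, u₀_inl2, u₀_inl3, u₀_inr0, u₀_inr1, u₀_inr2, u₀_inr3, Pi.zero_apply] <;> ring

/-- the norm is multiplicative -/
theorem N_omul (x y : OV F) : stdPlus F 4 (omul x y) = stdPlus F 4 x * stdPlus F 4 y := by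
  simp only [N_eq, omul_inl0, omul_inl1, omul_inl2, omul_inl3, omul_inr0, omul_inr1, omul_inr2,
    omul_inr3]
  ring

theorem N_oconj (x : OV F) : stdPlus F 4 (oconj x) = stdPlus F 4 x := by
  simp only [N_eq, oconj_inl0, oconj_inl1, oconj_inl2, oconj_inl3, oconj_inr0, oconj_inr1,
    oconj_inr2, oconj_inr3]
  ring

theorem oconj_oconj (x : OV F) : oconj (oconj x) = x := by
  apply ov_ext <;>
  simp only [oconj_inl0, oconj_inl1, oconj_inl2, oconj_inl3, oconj_inr0, oconj_inr1,
    oconj_inr2, oconj_inr3, neg_neg]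

theorem oconj_add (x y : OV F) : oconj (x + y) = oconj x + oconj y := by
  apply ov_ext <;>
  simp only [oconj_inl0, oconj_inl1, oconj_inl2, oconj_inl3, oconj_inr0, oconj_inr1,
    oconj_inr2, oconj_inr3, Pi.add_apply] <;> ring

theorem oconj_smul (c : F) (x : OV F) : oconj (c • x) = c • oconj x := by
  apply ov_ext <;>
  simp only [oconj_inl0, oconj_inl1, oconj_inl2, oconj_inl3, oconj_inr0, oconj_inr1,
    oconj_inr2, oconj_inr3, Pi.smul_apply, smul_eq_mul] <;> ring

theorem oconj_oone : oconj (oone : OV F) = oone := by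
  apply ov_ext <;>
  simp only [oconj_inl0, oconj_inl1, oconj_inl2, oconj_inl3, oconj_inr0, oconj_inr1,
    oconj_inr2, oconj_inr3, oone_inl0, oone_inl1, oone_inl2, oone_inl3, oone_inr0, oone_inr1,
    oone_inr2, oone_inr3, neg_zero]

theorem oconj_u₀ : oconj (u₀ : OV F) = -u₀ := by
  apply ov_ext <;>
  simp only [oconj_inl0, oconj_inl1, oconj_inl2, oconj_inl3, oconj_inr0, oconj_inr1,
    oconj_inr2, oconj_inr3, u₀_inl0, u₀_inl1, u₀_inl2, u₀_inl3, u₀_inr0, u₀_inr1, u₀_inr2,
    u₀_inr3, Pi.neg_apply, neg_zero]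

/-- conjugation is an anti-automorphism -/
theorem oconj_omul (x y : OV F) : oconj (omul x y) = omul (oconj y) (oconj x) := by
  apply ov_ext <;>
  simp only [omul_inl0, omul_inl1, omul_inl2, omul_inl3, omul_inr0, omul_inr1, omul_inr2, omul_inr3,
    oconj_inl0, oconj_inl1, oconj_inl2, oconj_inl3, oconj_inr0, oconj_inr1, oconj_inr2,
    oconj_inr3] <;> ring

/-- `x + x̄ = N(x,1) 1` -/
theorem add_oconj (x : OV F) : x + oconj x = polar (stdPlus F 4) x oone • oone := by
  apply ov_ext <;>
  simp only [polar_eq, oconj_inl0, oconj_inl1, oconj_inl2, oconj_inl3, oconj_inr0, oconj_inr1,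
    oconj_inr2, oconj_inr3, oone_inl0, oone_inl1, oone_inl2, oone_inl3, oone_inr0, oone_inr1,
    oone_inr2, oone_inr3, Pi.add_apply, Pi.smul_apply, smul_eq_mul] <;> ring

theorem oconj_omul_omul (x y : OV F) : omul (oconj x) (omul x y) = stdPlus F 4 x • y := by
  apply ov_ext <;>
  simp only [N_eq, omul_inl0, omul_inl1, omul_inl2, omul_inl3, omul_inr0, omul_inr1, omul_inr2,
    omul_inr3, oconj_inl0, oconj_inl1, oconj_inl2, oconj_inl3, oconj_inr0, oconj_inr1, oconj_inr2,
    oconj_inr3, Pi.smul_apply, smul_eq_mul] <;> ring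

theorem omul_oconj_omul' (x y : OV F) : omul x (omul (oconj x) y) = stdPlus F 4 x • y := by
  have := oconj_omul_omul (oconj x) y
  rwa [oconj_oconj, N_oconj] at this

theorem omul_omul_oconj (x y : OV F) : omul (omul y x) (oconj x) = stdPlus F 4 x • y := by
  apply ov_ext <;>
  simp only [N_eq, omul_inl0, omul_inl1, omul_inl2, omul_inl3, omul_inr0, omul_inr1, omul_inr2,
    omul_inr3, oconj_inl0, oconj_inl1, oconj_inl2, oconj_inl3, oconj_inr0, oconj_inr1, oconj_inr2,
    oconj_inr3, Pi.smul_apply, smul_eq_mul] <;> ring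

theorem omul_oconj_omul_right (x y : OV F) : omul (omul y (oconj x)) x = stdPlus F 4 x • y := by
  have := omul_omul_oconj (oconj x) y
  rwa [oconj_oconj, N_oconj] at this

theorem omul_oconj_self (x : OV F) : omul x (oconj x) = stdPlus F 4 x • oone := by
  have := omul_omul_oconj x oone
  rwa [oone_omul] at this

theorem oconj_omul_self (x : OV F) : omul (oconj x) x = stdPlus F 4 x • oone := by
  have := oconj_omul_omul x oone
  rwa [omul_oone] at this

/-- flexibility -/
theorem flex (a x : OV F) : omul (omul a x) a = omul a (omul x a) := by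
  apply ov_ext <;>
  simp only [omul_inl0, omul_inl1, omul_inl2, omul_inl3, omul_inr0, omul_inr1, omul_inr2,
    omul_inr3] <;> ring

/-- left alternativity -/
theorem alt_left (x y : OV F) : omul x (omul x y) = omul (omul x x) y := by
  apply ov_ext <;>
  simp only [omul_inl0, omul_inl1, omul_inl2, omul_inl3, omul_inr0, omul_inr1, omul_inr2,
    omul_inr3] <;> ring

/-- right alternativity -/
theorem alt_right (x y : OV F) : omul (omul y x) x = omul y (omul x x) := by
  apply ov_ext <;>
  simp only [omul_inl0, omul_inl1, omul_inl2, omul_inl3, omul_inr0, omul_inr1, omul_inr2,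
    omul_inr3] <;> ring

set_option maxHeartbeats 1000000 in
/-- the middle Moufang identity -/
theorem moufang_mid (a x y : OV F) : omul (omul a x) (omul y a) = omul (omul a (omul x y)) a := by
  apply ov_ext <;>
  simp only [omul_inl0, omul_inl1, omul_inl2, omul_inl3, omul_inr0, omul_inr1, omul_inr2,
    omul_inr3] <;> ring

set_option maxHeartbeats 1000000 in
/-- the left Moufang identity -/
theorem moufang_left (a x y : OV F) :
    omul (omul (omul a x) a) y = omul a (omul x (omul a y)) := by
  apply ov_ext <;>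
  simp only [omul_inl0, omul_inl1, omul_inl2, omul_inl3, omul_inr0, omul_inr1, omul_inr2,
    omul_inr3] <;> ring

set_option maxHeartbeats 1000000 in
/-- the right Moufang identity -/
theorem moufang_right (a x y : OV F) :
    omul y (omul (omul a x) a) = omul (omul (omul y a) x) a := by
  apply ov_ext <;>
  simp only [omul_inl0, omul_inl1, omul_inl2, omul_inl3, omul_inr0, omul_inr1, omul_inr2,
    omul_inr3] <;> ring

/-- `a x̄ a = N(x,a) a - N(a) x` -/
theorem omul_oconj_omul (a x : OV F) :
    omul (omul a (oconj x)) a = polar (stdPlus F 4) x a • a - stdPlus F 4 a • x := by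
  apply ov_ext <;>
  simp only [N_eq, polar_eq, omul_inl0, omul_inl1, omul_inl2, omul_inl3, omul_inr0, omul_inr1,
    omul_inr2, omul_inr3, oconj_inl0, oconj_inl1, oconj_inl2, oconj_inl3, oconj_inr0, oconj_inr1,
    oconj_inr2, oconj_inr3, Pi.sub_apply, Pi.smul_apply, smul_eq_mul] <;> ring

/-- left multiplication as a linear map -/
def Lm (a : OV F) : OV F →ₗ[F] OV F where
  toFun x := omul a x
  map_add' x y := omul_add_right a x y
  map_smul' c x := omul_smul_right c a x

/-- right multiplication as a linear map -/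
def Rm (a : OV F) : OV F →ₗ[F] OV F where
  toFun x := omul x a
  map_add' x y := omul_add_left x y a
  map_smul' c x := omul_smul_left c x a

theorem Lm_apply (a x : OV F) : Lm a x = omul a x := rfl
theorem Rm_apply (a x : OV F) : Rm a x = omul x a := rfl

/-- conjugation as a linear map -/
def Km : OV F →ₗ[F] OV F where
  toFun x := oconj x
  map_add' x y := oconj_add x y
  map_smul' c x := oconj_smul c x

theorem Km_apply (x : OV F) : Km x = oconj x := rfl

end Cfsg.Agent.Helper43.Tri
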