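import Mathlib
import Cfsg.Agent.Lib.Helper43.Tri.Main2
import Cfsg.Agent.Lib.Helper43.Tri.Field
import Cfsg.Agent.Lib.Helper14.OrthAutCount
import Cfsg.Agent.S0817

set_option autoImplicit false
set_option linter.unusedSectionVars false
set_option linter.unusedVariables false

/-!
# Data for `Out(PΩ⁺₈(2^f)) ≅ S₃ × C_f`
-/

namespace Cfsg.Agent.Helper43.Tri

open Matrix QuadraticMap Module Cfsg.Agent.Helper13 Cfsg.Agent.Helper43
  Cfsg.Agent.Helper43.OGam Cfsg.Agent.Helper16.OSemiAut Cfsg.Agent.Helper14.OrthAutCount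
  Cfsg.Agent.Helper14.AutCount Cfsg.Agent.Helper5.OrthAut

section abstract

/-- complement to `OGam.asm`: the projection onto the field part, with kernel `D`, and the fact that
`D/N = {1, r}`. -/
theorem asm_rho {Γ : Type*} [Group Γ] (N D Φ : Subgroup Γ) [hD : D.Normal]
    (hND : N ≤ D) (hidx : N.relIndex D = 2) (hdisj : ∀ x, x ∈ Φ → x ∈ D → x = 1)
    (hsup : ∀ γ : Γ, ∃ d ∈ D, ∃ φ ∈ Φ, γ = d * φ) {f : ℕ}
    (e : ↥Φ ≃* Multiplicative (ZMod f)) (r : Γ) (hr : r ∈ D) (hrN : r ∉ N) :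
    r * r ∈ N ∧ ∃ ρ : Γ →* Multiplicative (ZMod f), (∀ γ ∈ D, ρ γ = 1) ∧
      ∀ γ, ρ γ = 1 → γ ∈ N ∨ γ * r⁻¹ ∈ N := by
  classical
  rw [Subgroup.relIndex_eq_two_iff] at hidx
  obtain ⟨a, haD, ha⟩ := hidx
  have hcase : ∀ d : Γ, d ∈ D → d ∉ N → d * a ∈ N := by
    intro d hd hdN
    rcases ha d hd with ⟨h1, _⟩ | ⟨h1, _⟩
    · exact h1
    · exact absurd h1 hdN
  have hra : r * a ∈ N := hcase r hr hrN
  have hr'N : r⁻¹ ∉ N := fun h => hrN (by simpa using N.inv_mem h)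
  have hr'a : r⁻¹ * a ∈ N := hcase r⁻¹ (D.inv_mem hr) hr'N
  have key : ∀ d : Γ, d ∈ D → d ∈ N ∨ d * r⁻¹ ∈ N := by
    intro d hd
    by_cases hdN : d ∈ N
    · exact Or.inl hdN
    · right
      have h1 := hcase d hd hdN
      have h2 : d * r⁻¹ = (d * a) * (r * a)⁻¹ := by group
      rw [h2]
      exact N.mul_mem h1 (N.inv_mem hra)
  refine ⟨?_, ?_⟩
  · have h2 : r * r = (r * a) * (r⁻¹ * a)⁻¹ := by group
    rw [h2]
    exact N.mul_mem hra (N.inv_mem hr'a)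
  · have hcomp : Φ.IsComplement' D := by
      apply Subgroup.isComplement'_of_disjoint_and_mul_eq_univ
      · rw [Subgroup.disjoint_def]
        intro x hx hx'
        exact hdisj x hx hx'
      · rw [Set.eq_univ_iff_forall]
        intro γ
        obtain ⟨d, hd, φ, hφ, h⟩ := hsup γ⁻¹
        refine ⟨φ⁻¹, Φ.inv_mem hφ, d⁻¹, D.inv_mem hd, ?_⟩
        show φ⁻¹ * d⁻¹ = γ
        rw [← _root_.mul_inv_rev, ← h, inv_inv]
    set ρ : Γ →* Multiplicative (ZMod f) :=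
      (e.toMonoidHom.comp hcomp.QuotientMulEquiv.toMonoidHom).comp (QuotientGroup.mk' D) with hρ
    have hρ1 : ∀ γ, ρ γ = 1 ↔ γ ∈ D := by
      intro γ
      constructor
      · intro hγ
        have h1 : hcomp.QuotientMulEquiv (QuotientGroup.mk' D γ) = 1 :=
          e.injective (by rw [map_one]; exact hγ)
        have h2 : QuotientGroup.mk' D γ = 1 :=
          hcomp.QuotientMulEquiv.injective (by rw [map_one]; exact h1)
        exact (QuotientGroup.eq_one_iff γ).1 h2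
      · intro hγ
        have h2 : QuotientGroup.mk' D γ = 1 := (QuotientGroup.eq_one_iff γ).2 hγ
        show e (hcomp.QuotientMulEquiv (QuotientGroup.mk' D γ)) = 1
        rw [h2, map_one, map_one]
    refine ⟨ρ, fun γ hγ => (hρ1 γ).2 hγ, fun γ hγ => key γ ((hρ1 γ).1 hγ)⟩

/-- the abstract passage to `A ⧸ N` -/
theorem out_data_abstract {A : Type*} [Group A] (N Γ : Subgroup A) [hNn : N.Normal] (hNΓ : N ≤ Γ)
    (D' Φ' : Subgroup ↥Γ) [hD : D'.Normal] (hND : N.subgroupOf Γ ≤ D')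
    (hidx : (N.subgroupOf Γ).relIndex D' = 2) (hdisj : ∀ x, x ∈ Φ' → x ∈ D' → x = 1)
    (hsup : ∀ γ : ↥Γ, ∃ d ∈ D', ∃ φ ∈ Φ', γ = d * φ) {f : ℕ} [NeZero f]
    (e : ↥Φ' ≃* Multiplicative (ZMod f))
    (r τ : A) (hrD0 : ∃ d ∈ D', (d : A) = r) (hτ : τ⁻¹ * r * τ ∉ Γ)
    (hindex : Γ.index = 3) (hcard : Nat.card (A ⧸ N) = 6 * f) :
    ∃ (H : Subgroup (A ⧸ N)) (r' : A ⧸ N) (φ : ↥H →* Multiplicative (ZMod f)),
      Nat.card (A ⧸ N) = 6 * f ∧ H.index = 3 ∧ (∀ a ∈ H, ∀ b ∈ H, a * b = b * a) ∧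
      r' ∈ H ∧ r' * r' = 1 ∧
      (∀ h : ↥H, φ h = 1 → (h : A ⧸ N) = 1 ∨ (h : A ⧸ N) = r') ∧
      ∃ t : A ⧸ N, t⁻¹ * r' * t ∉ H := by
  classical
  obtain ⟨d0, hd0, hd0r⟩ := hrD0
  have hrΓ : r ∈ Γ := by rw [← hd0r]; exact d0.2
  have hrD : (⟨r, hrΓ⟩ : ↥Γ) ∈ D' := by
    have : (⟨r, hrΓ⟩ : ↥Γ) = d0 := Subtype.ext hd0r.symm
    rw [this]
    exact hd0
  set N' : Subgroup ↥Γ := N.subgroupOf Γ with hN'
  have hconjΓ : ∀ x : A, x ∈ N → τ⁻¹ * x * τ ∈ Γ := by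
    intro x hx
    apply hNΓ
    have := hNn.conj_mem x hx τ⁻¹
    rwa [inv_inv] at this
  have hr'N : (⟨r, hrΓ⟩ : ↥Γ) ∉ N' := by
    intro h
    rw [hN', Subgroup.mem_subgroupOf] at h
    exact hτ (hconjΓ _ h)
  obtain ⟨ε⟩ := Cfsg.Agent.Helper43.OGam.asm N' D' Φ' hND hidx hdisj hsup e
  obtain ⟨hrr, ρ, hρD, hρ⟩ := asm_rho N' D' Φ' hND hidx hdisj hsup e ⟨r, hrΓ⟩ hrD hr'N
  set π : A →* A ⧸ N := QuotientGroup.mk' N with hπ
  have hπ1 : ∀ x, π x = 1 ↔ x ∈ N := fun x => QuotientGroup.eq_one_iff x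
  have hπeq : ∀ x y, π x = π y ↔ x⁻¹ * y ∈ N := fun x y => QuotientGroup.eq
  set ψ : ↥Γ →* ↥(Γ.map π) := π.subgroupMap Γ with hψ
  have hψs : Function.Surjective ψ := MonoidHom.subgroupMap_surjective π Γ
  have hψv : ∀ γ : ↥Γ, ((ψ γ : ↥(Γ.map π)) : A ⧸ N) = π (γ : A) := fun γ => rfl
  have hker : ψ.ker ≤ ρ.ker := by
    intro γ hγ
    rw [MonoidHom.mem_ker] at hγ ⊢
    apply hρD
    apply hND
    rw [Subgroup.mem_subgroupOf, ← hπ1, ← hψv, hγ]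
    rfl
  set φ : ↥(Γ.map π) →* Multiplicative (ZMod f) :=
    MonoidHom.liftOfSurjective ψ hψs ⟨ρ, hker⟩ with hφ
  have hφψ : ∀ γ : ↥Γ, φ (ψ γ) = ρ γ := fun γ =>
    MonoidHom.liftOfRightInverse_comp_apply ψ _ (Function.rightInverse_surjInv hψs) ⟨ρ, hker⟩ γ
  refine ⟨Γ.map π, π r, φ, hcard, ?_, ?_, ?_, ?_, ?_, ?_⟩
  · rw [Subgroup.index_map, QuotientGroup.ker_mk', sup_eq_left.mpr hNΓ,
      MonoidHom.range_eq_top.mpr (QuotientGroup.mk'_surjective _), Subgroup.index_top, mul_one]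
    exact hindex
  · rintro _ ⟨α, hα, rfl⟩ _ ⟨β, hβ, rfl⟩
    rw [← map_mul, ← map_mul, hπeq]
    have h1 : (QuotientGroup.mk (⟨α, hα⟩ : ↥Γ) : ↥Γ ⧸ N') * QuotientGroup.mk (⟨β, hβ⟩ : ↥Γ) =
        QuotientGroup.mk (⟨β, hβ⟩ : ↥Γ) * QuotientGroup.mk (⟨α, hα⟩ : ↥Γ) := by
      apply ε.injective
      rw [map_mul, map_mul, mul_comm]
    rw [← QuotientGroup.mk_mul, ← QuotientGroup.mk_mul, QuotientGroup.eq, hN',
      Subgroup.mem_subgroupOf] at h1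
    exact h1
  · exact ⟨r, hrΓ, rfl⟩
  · rw [← map_mul, hπ1]
    have := hrr
    rw [hN', Subgroup.mem_subgroupOf] at this
    exact this
  · intro h hh
    obtain ⟨γ, rfl⟩ := hψs h
    rw [hφψ] at hh
    rcases hρ γ hh with h1 | h1
    · left
      rw [hψv, hπ1]
      rw [hN', Subgroup.mem_subgroupOf] at h1
      exact h1
    · right
      rw [hψv]
      rw [hN', Subgroup.mem_subgroupOf] at h1
      have h3 : π ((γ : A) * r⁻¹) = 1 := (hπ1 _).2 h1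
      rw [map_mul, map_inv, mul_inv_eq_one] at h3
      exact h3
  · refine ⟨π τ, ?_⟩
    rw [← map_inv, ← map_mul, ← map_mul]
    rintro ⟨γ, hγ, hγe⟩
    rw [hπeq] at hγe
    apply hτ
    have := Γ.mul_mem hγ (hNΓ hγe)
    rwa [mul_inv_cancel_left] at this

end abstract

section concrete

variable {F : Type*} [Field F] [Fintype F]

theorem hQσ4 : ∀ (σ : F ≃+* F) (v : OV F),
    stdPlus F 4 (fun i => σ (v i)) = σ (stdPlus F 4 v) :=
  fun σ v => hQA4 σ v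

theorem isoGam_mem_Lin (g : O8 F) :
    Cfsg.Agent.Helper43.OMin.isoGam (⇑(stdPlus F 4)) g ∈ Lin (⇑(stdPlus F 4)) := by
  intro c x
  rw [Cfsg.Agent.Helper43.OMin.isoGam_apply, Cfsg.Agent.Helper43.OMin.isoGam_apply,
    Matrix.mulVec_smul]

/-- `PΓO` as the range of `Theta` -/
noncomputable abbrev Gam4 (F : Type*) [Field F] [Fintype F] :
    Subgroup (MulAut (Cfsg.POmega F ⇑(stdPlus F 4))) := (Theta ⇑(stdPlus F 4)).range

theorem Gam4_eq : Gam4 F = Cfsg.gammaPOmega F ⇑(stdPlus F 4) := range_Theta (⇑(stdPlus F 4))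

theorem inn_le_Gam4 : Cfsg.Inn (Cfsg.POmega F ⇑(stdPlus F 4)) ≤ Gam4 F := by
  rw [Gam4_eq]
  exact Cfsg.Agent.Helper16.OSemiAut.inn_le_gamma (stdPlus F 4)

/-- `Theta` onto its range -/
noncomputable def th4 (F : Type*) [Field F] [Fintype F] :
    GamO ⇑(stdPlus F 4) →* ↥(Gam4 F) := (Theta ⇑(stdPlus F 4)).rangeRestrict

theorem th4_surjective : Function.Surjective (th4 F) := MonoidHom.rangeRestrict_surjective _

theorem th4_coe (L : GamO ⇑(stdPlus F 4)) :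
    ((th4 F L : ↥(Gam4 F)) : MulAut (Cfsg.POmega F ⇑(stdPlus F 4))) = Theta ⇑(stdPlus F 4) L := rfl

/-- the image of the similarities -/
noncomputable def D4 (F : Type*) [Field F] [Fintype F] : Subgroup ↥(Gam4 F) :=
  (Lin ⇑(stdPlus F 4)).map (th4 F)

instance D4_normal : (D4 F).Normal := Subgroup.Normal.map inferInstance (th4 F) th4_surjective

/-- the field automorphisms -/
noncomputable def fa4 (F : Type*) [Field F] [Fintype F] : RingAut F →* ↥(Gam4 F) :=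
  (th4 F).comp (fieldGam ⇑(stdPlus F 4) hQσ4)

theorem fa4_apply (σ : RingAut F) :
    fa4 F σ = th4 F (fieldGam ⇑(stdPlus F 4) hQσ4 σ) := rfl

theorem D4_map : (D4 F).map (Gam4 F).subtype = Cfsg.pgoAut F ⇑(stdPlus F 4) := by
  unfold D4
  rw [Subgroup.map_map, ← map_Lin_eq_pgoAut]
  rfl

theorem N4_map : ((Cfsg.Inn (Cfsg.POmega F ⇑(stdPlus F 4))).subgroupOf (Gam4 F)).map
    (Gam4 F).subtype = Cfsg.Inn (Cfsg.POmega F ⇑(stdPlus F 4)) := by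
  rw [Subgroup.subgroupOf_map_subtype, inf_eq_left.mpr inn_le_Gam4]

theorem inn_le_pgo4 :
    Cfsg.Inn (Cfsg.POmega F ⇑(stdPlus F 4)) ≤ Cfsg.pgoAut F ⇑(stdPlus F 4) :=
  Cfsg.Agent.S0817.inn_le_pgoAut_plus 4

theorem N4_le_D4 : (Cfsg.Inn (Cfsg.POmega F ⇑(stdPlus F 4))).subgroupOf (Gam4 F) ≤ D4 F := by
  rw [← Subgroup.map_le_map_iff_of_injective (Gam4 F).subtype_injective, N4_map, D4_map]
  exact inn_le_pgo4

theorem center4 : Subgroup.center (Cfsg.POmega F ⇑(stdPlus F 4)) = ⊥ :=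
  Cfsg.Agent.S0817.center_eq_bot (F := F) 4 le_rfl

theorem relIndex4 (h2 : (2 : F) = 0) :
    ((Cfsg.Inn (Cfsg.POmega F ⇑(stdPlus F 4))).subgroupOf (Gam4 F)).relIndex (D4 F) = 2 := by
  rw [← Subgroup.relIndex_map_map_of_injective _ _ (Gam4 F).subtype_injective, N4_map, D4_map]
  have hcardPO : 0 < Nat.card (Cfsg.POmega F ⇑(stdPlus F 4)) := Nat.card_pos
  have h1 := Subgroup.relIndex_mul_relIndex (⊥ : Subgroup (MulAut (Cfsg.POmega F ⇑(stdPlus F 4))))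
    (Cfsg.Inn (Cfsg.POmega F ⇑(stdPlus F 4))) (Cfsg.pgoAut F ⇑(stdPlus F 4)) bot_le inn_le_pgo4
  rw [Subgroup.relIndex_bot_left, Subgroup.relIndex_bot_left, card_inn center4] at h1
  have h3 : Nat.card ↥(Cfsg.pgoAut F ⇑(stdPlus F 4)) =
      2 * Nat.card (Cfsg.POmega F ⇑(stdPlus F 4)) :=
    Cfsg.Agent.Helper43.TriSigs.card_pgoAut_plus_even h2 le_rfl
  rw [h3] at h1
  have h4 : Nat.card (Cfsg.POmega F ⇑(stdPlus F 4)) *
      (Cfsg.Inn (Cfsg.POmega F ⇑(stdPlus F 4))).relIndex (Cfsg.pgoAut F ⇑(stdPlus F 4)) =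
      Nat.card (Cfsg.POmega F ⇑(stdPlus F 4)) * 2 := by rw [h1]; ring
  exact Nat.eq_of_mul_eq_mul_left hcardPO h4

theorem fa4_key (σ : RingAut F) (h : fa4 F σ ∈ D4 F) : σ = 1 := by
  obtain ⟨L', hL', hL'σ⟩ := h
  have hnd := stdPlus_nondegenerate F 4
  have hfam := stdPlus_isHypFamily F 4
  have hcard8 : Fintype.card (Fin 4 ⊕ Fin 4) = 8 := card8
  have hL'σ' : Theta ⇑(stdPlus F 4) L' =
      Theta ⇑(stdPlus F 4) (fieldGam ⇑(stdPlus F 4) hQσ4 σ) :=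
    congrArg (fun x : ↥(Gam4 F) => (x : MulAut (Cfsg.POmega F ⇑(stdPlus F 4)))) hL'σ
  have h1 : Theta ⇑(stdPlus F 4) (L'⁻¹ * fieldGam ⇑(stdPlus F 4) hQσ4 σ) = 1 := by
    rw [map_mul, map_inv, hL'σ', inv_mul_cancel]
  have hlin : ∀ (c : F) (x : OV F),
      ((L'⁻¹ : GamO ⇑(stdPlus F 4)) : Equiv.Perm (OV F)) (c • x) =
        c • ((L'⁻¹ : GamO ⇑(stdPlus F 4)) : Equiv.Perm (OV F)) x :=
    (Lin ⇑(stdPlus F 4)).inv_mem hL'
  have h2' := (rigid (stdPlus F 4) hnd _ _ hfam (by norm_num) (by rw [hcard8]; norm_num) _ h1 σ (by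
    intro c x
    show ((L'⁻¹ : GamO ⇑(stdPlus F 4)) : Equiv.Perm (OV F))
        (((fieldGam ⇑(stdPlus F 4) hQσ4 σ : GamO ⇑(stdPlus F 4)) : Equiv.Perm (OV F)) (c • x)) =
      σ c • ((L'⁻¹ : GamO ⇑(stdPlus F 4)) : Equiv.Perm (OV F))
        (((fieldGam ⇑(stdPlus F 4) hQσ4 σ : GamO ⇑(stdPlus F 4)) : Equiv.Perm (OV F)) x)
    rw [fieldGam_smul, hlin])).2
  apply RingEquiv.ext
  intro c
  exact h2' c

theorem fa4_injective : Function.Injective (fa4 F) := by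
  rw [injective_iff_map_eq_one]
  intro σ hσ
  apply fa4_key
  rw [hσ]
  exact one_mem _

theorem fa4_disj : ∀ x, x ∈ (fa4 F).range → x ∈ D4 F → x = 1 := by
  rintro β ⟨σ, rfl⟩ hβ
  rw [fa4_key σ hβ, map_one]

end concrete

end Cfsg.Agent.Helper43.Tri
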