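import Mathlib
import Cfsg.Agent.Lib.Helper43.Tri.Out4a

set_option autoImplicit false
set_option linter.unusedSectionVars false
set_option linter.unusedVariables false

/-!
# Data for `Out(PΩ⁺₈(2^f)) ≅ S₃ × C_f`
-/

namespace Cfsg.Agent.Helper43.Tri

open Matrix QuadraticMap Module Cfsg.Agent.Helper13 Cfsg.Agent.Helper43
  Cfsg.Agent.Helper43.OGam Cfsg.Agent.Helper16.OSemiAut Cfsg.Agent.Helper14.OrthAutCount
  Cfsg.Agent.Helper14.AutCount Cfsg.Agent.Helper5.OrthAut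

section concrete

variable {F : Type*} [Field F] [Fintype F]

theorem sup4 : ∀ γ : ↥(Gam4 F), ∃ d ∈ D4 F, ∃ φ ∈ (fa4 F).range, γ = d * φ := by
  intro γ
  obtain ⟨L, hL⟩ := th4_surjective γ
  obtain ⟨L', hL', σ, hLL⟩ := exists_lin_mul_field (⇑(stdPlus F 4)) hQσ4 L
  have h1 : th4 F L' ∈ D4 F := Subgroup.mem_map_of_mem _ hL'
  have h2 : fa4 F σ ∈ (fa4 F).range := ⟨σ, rfl⟩
  refine ⟨th4 F L', h1, fa4 F σ, h2, ?_⟩
  have h3 : th4 F L = th4 F L' * th4 F (fieldGam ⇑(stdPlus F 4) hQσ4 σ) := by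
    rw [← map_mul]
    exact congrArg (th4 F) hLL
  exact hL.symm.trans h3

theorem rAut_mem_D4 : ∃ d ∈ D4 F, (d : MulAut (Cfsg.POmega F ⇑(stdPlus F 4))) = rAut := by
  refine ⟨th4 F (Cfsg.Agent.Helper43.OMin.isoGam (⇑(stdPlus F 4))
    (reflIso (stdPlus F 4) (N_oone_ne (F := F)))), Subgroup.mem_map_of_mem _ (isoGam_mem_Lin _), ?_⟩
  rw [th4_coe]
  rfl

theorem card_out4 {f : ℕ} (hf : 1 ≤ f) (hF : Fintype.card F = 2 ^ f) :
    Nat.card (Cfsg.Out (Cfsg.POmega F ⇑(stdPlus F 4))) = 6 * f := by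
  haveI : Fact (Nat.Prime 2) := ⟨Nat.prime_two⟩
  have hcardPO : 0 < Nat.card (Cfsg.POmega F ⇑(stdPlus F 4)) := Nat.card_pos
  have hA := Cfsg.Agent.S0817.result (F := F) 2 f hf hF 4 le_rfl
  rw [if_pos rfl, if_pos rfl] at hA
  have h1 := Subgroup.card_eq_card_quotient_mul_card_subgroup
    (Cfsg.Inn (Cfsg.POmega F ⇑(stdPlus F 4)))
  rw [card_inn center4] at h1
  have h3 : Nat.card (Cfsg.POmega F ⇑(stdPlus F 4)) *
      Nat.card (Cfsg.Out (Cfsg.POmega F ⇑(stdPlus F 4))) =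
      Nat.card (Cfsg.POmega F ⇑(stdPlus F 4)) * (6 * f) := by
    rw [mul_comm, ← h1]
    rw [show Nat.card (MulAut (Cfsg.POmega F ⇑(stdPlus F 4))) =
      3 * 2 * f * Nat.card (Cfsg.POmega F ⇑(stdPlus F 4)) from hA]
    ring
  exact Nat.eq_of_mul_eq_mul_left hcardPO h3

set_option maxHeartbeats 1600000 in
/-- data for `Out(PΩ⁺₈(2^f)) ≅ S₃ × C_f` (standard form) -/
theorem out4_data_std {f : ℕ} (hf : 1 ≤ f) (hF : Fintype.card F = 2 ^ f) :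
    ∃ (H : Subgroup (Cfsg.Out (Cfsg.POmega F ⇑(stdPlus F 4))))
      (r : Cfsg.Out (Cfsg.POmega F ⇑(stdPlus F 4)))
      (φ : ↥H →* Multiplicative (ZMod f)),
      Nat.card (Cfsg.Out (Cfsg.POmega F ⇑(stdPlus F 4))) = 6 * f ∧
      H.index = 3 ∧
      (∀ a ∈ H, ∀ b ∈ H, a * b = b * a) ∧
      r ∈ H ∧ r * r = 1 ∧
      (∀ h : ↥H, φ h = 1 → (h : Cfsg.Out (Cfsg.POmega F ⇑(stdPlus F 4))) = 1 ∨
        (h : Cfsg.Out (Cfsg.POmega F ⇑(stdPlus F 4))) = r) ∧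
      ∃ t : Cfsg.Out (Cfsg.POmega F ⇑(stdPlus F 4)), t⁻¹ * r * t ∉ H := by
  classical
  haveI : Fact (Nat.Prime 2) := ⟨Nat.prime_two⟩
  haveI : NeZero f := ⟨by omega⟩
  have hchar : CharP F 2 := charP_of_card_eq_prime_pow hF
  have h2 : (2 : F) = 0 := by
    have := CharP.cast_eq_zero F 2
    exact_mod_cast this
  obtain ⟨τ, c, hτ, -, -, -, hrτ⟩ := triality_data (F := F)
  obtain ⟨eR⟩ := Cfsg.Agent.Helper41.exists_ringAut_equiv_zmod (F := F) 2 f hf hF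
  have eΦ : ↥((fa4 F).range) ≃* Multiplicative (ZMod f) :=
    (MonoidHom.ofInjective fa4_injective).symm.trans eR
  have hτ' : τ⁻¹ * rAut * τ ∉ Gam4 F := by
    rw [Gam4_eq]
    exact hrτ
  have hindex : (Gam4 F).index = 3 := by
    rw [Gam4_eq]
    exact index_gamma
  exact out_data_abstract (Cfsg.Inn (Cfsg.POmega F ⇑(stdPlus F 4))) (Gam4 F) inn_le_Gam4
    (D4 F) (fa4 F).range N4_le_D4 (relIndex4 h2) fa4_disj sup4 eΦ rAut τ
    rAut_mem_D4 hτ' hindex (card_out4 hf hF)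

/-- data for `Out(PΩ⁺₈(2^f)) ≅ S₃ × C_f` -/
theorem out4_data {f : ℕ} (hf : 1 ≤ f)
    (hF : Fintype.card F = 2 ^ f) :
    ∃ (H : Subgroup (Cfsg.Out (Cfsg.POmega F (Cfsg.quadFormPlus 4 F))))
      (r : Cfsg.Out (Cfsg.POmega F (Cfsg.quadFormPlus 4 F)))
      (φ : ↥H →* Multiplicative (ZMod f)),
      Nat.card (Cfsg.Out (Cfsg.POmega F (Cfsg.quadFormPlus 4 F))) = 6 * f ∧
      H.index = 3 ∧
      (∀ a ∈ H, ∀ b ∈ H, a * b = b * a) ∧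
      r ∈ H ∧ r * r = 1 ∧
      (∀ h : ↥H, φ h = 1 → (h : Cfsg.Out (Cfsg.POmega F (Cfsg.quadFormPlus 4 F))) = 1 ∨
        (h : Cfsg.Out (Cfsg.POmega F (Cfsg.quadFormPlus 4 F))) = r) ∧
      ∃ t : Cfsg.Out (Cfsg.POmega F (Cfsg.quadFormPlus 4 F)), t⁻¹ * r * t ∉ H :=
  out4_data_std hf hF

end concrete

end Cfsg.Agent.Helper43.Tri
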