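import Mathlib
import Cfsg.Agent.Lib.Helper43.Tri.Rel
import Cfsg.Agent.Lib.Helper13.OrthPermE
import Cfsg.Agent.Lib.Helper13.OAutBRP
import Cfsg.Agent.Lib.Helper36.DicksonDet
import Cfsg.Agent.Lib.Helper14.OrthAutCount
import Cfsg.Agent.Lib.Helper14.ReflGen
import Cfsg.Agent.Lib.Lead.POmegaCard
import Cfsg.Agent.Lib.Helper79.TriNUC
import Cfsg.Agent.Lib.Helper79.TriUNIQ
import Cfsg.Agent.Lib.Helper79.TriPERF
import Cfsg.Agent.Lib.Helper23.TriSPEC
import Cfsg.Agent.Lib.Helper85.TriPP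
import Cfsg.Agent.Lib.Helper5.TriUC
import Cfsg.Agent.Lib.Helper42.TriUD
import Cfsg.Agent.Lib.Helper42.TriUE
import Cfsg.Agent.Lib.Helper42.TriCB
import Cfsg.Agent.Lib.Helper66.TriRB
import Cfsg.Agent.Lib.Helper36.TriGEN
import Cfsg.Agent.Lib.Helper79.TriTAU
import Cfsg.Agent.Lib.Helper77.TriPPB
import Cfsg.Agent.Lib.Helper45.TriUF
import Cfsg.Agent.Lib.Helper36.TriCL
import Cfsg.Agent.Lib.Helper26.TriNOTQB
import Cfsg.Agent.Lib.Helper43.Tri.CA

/-!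
# LEMMA SERVER "TRI" (helper43): S0817 = |Aut(PΩ⁺_2m(q))|, incl. TRIALITY for m = 4.

Defs ON MAIN: Cfsg/Agent/Lib/Helper43/Tri/{Defs,Oct,Rel}.lean (ns Cfsg.Agent.Helper43.Tri):
  OV F = Fin 4 ⊕ Fin 4 → F, omul (split octonion product), oconj, oone, u₀ (nilpotent), coordinate
  lemmas omul_inl0 .. omul_inr3, oconj_*, oone_*, u₀_*, ov_ext, N_eq, polar_eq  (Defs);
  ALL octonion identities: N_omul, oconj_omul, oconj_omul_omul (x̄(xy) = N(x)y), omul_omul_oconj,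
  omul_oconj_omul' , omul_oconj_omul_right, flex, alt_left, alt_right, moufang_mid/left/right,
  omul_oconj_omul (a x̄ a = N(x,a)a - N(a)x), add_oconj, bilinearity omul_add_left.. , Lm/Rm/Km  (Oct);
  mkIso/mkIso_smul (isometry from a linear map + inverse), Zrad/Zb (group of the E(y,y'), y,y' ∈ Y, and its
  image in PΩ), O8 F, Rel g₀ g₁ g₂ (g₀(xy) = g₁(x) g₂(y)) with Rel.one/mul/inv, RelDom, SameCl, MTS (Rel).
Proof tactic for any coordinate identity: `apply ov_ext <;> simp only [omul_inl0, .., Pi.add_apply,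
  Pi.smul_apply, smul_eq_mul] <;> ring` (see Oct.lean).

Each piece below is INDEPENDENT (dependencies are passed as hypotheses).  Put your proof in
Cfsg/Agent/Lib/<You>/Tri<TAG>.lean, ns Cfsg.Agent.<You>.Tri, name+statement VERBATIM, post
"TRI (<TAG>) ON MAIN".  Claim on the board first ("takes TRI (<TAG>)").
-/

set_option autoImplicit false

namespace Cfsg.Agent.Helper43.TriSigs

open Matrix QuadraticMap Cfsg.Agent.Helper13 Cfsg.Agent.Helper43 Cfsg.Agent.Helper5.OAut Module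
open Cfsg.Agent.Helper43.Tri Cfsg.Agent.Helper43.OGam

/-! ## E-side: the triality automorphism from split octonions -/

section E

variable {F : Type*} [Field F]

/-- (NUC) the middle nucleus of the split octonions is `F·1`.  Plug in basis vectors
`x, y = Pi.single i 1` / use `congrFun (h x y) k` for a handful of `(x, y, k)`; each gives a linear
equation in the 8 coordinates of `c` (via the `omul_inl*`/`omul_inr*` lemmas); they force
`c (inl j) = c (inr j) = 0` for `j = 1,2,3` and `c (inl 0) = c (inr 0)`; then `l = c (inl 0)`.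
(Checked by computer: the linear system has rank 7 over ℚ and over 𝔽₂, 𝔽₃, 𝔽₅, 𝔽₇.) -/
theorem nucleus (c : OV F) (h : ∀ x y : OV F, omul (omul x c) y = omul x (omul c y)) :
    ∃ l : F, c = l • oone := by
  exact Cfsg.Agent.Helper79.Tri.nucleus c h

/-- (RB) the product of two reflections in vectors of equal norm is the first component of a
related triple.  With `n = N a = N b`: `g₁ x = n⁻¹ • a(b̄ x)`, `g₂ y = n⁻¹ • (y b̄) a`
(build with `mkIso`, inverses `n⁻¹ • b(ā x)` and `n⁻¹ • (y ā) b` by `oconj_omul_omul` etc.; isometry by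
`N_omul`, `N_oconj`).  The reflection is `r_a z = z - (N a)⁻¹ N(a,z) a = -(N a)⁻¹ a z̄ a`
(`omul_oconj_omul`; `reflIso` acts by `Cfsg.Agent.Helper36.OmegaTrans.act_reflIso` /
`reflectionMatrix_mulVec`), so `r_a r_b z = n⁻² a (b̄ z b̄) a` (`oconj_omul`), and for `z = x y`:
`b̄ (x y) b̄ = (b̄ x)(y b̄)` and `a ((b̄ x)(y b̄)) a = (a (b̄ x)) ((y b̄) a)` (`moufang_mid` twice, `flex`). -/
theorem rel_refl_mul (a b : OV F) (ha : stdPlus F 4 a ≠ 0) (hb : stdPlus F 4 b ≠ 0)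
    (hab : stdPlus F 4 b = stdPlus F 4 a) :
    ∃ g₁ g₂ : O8 F, Rel (reflIso (stdPlus F 4) ha * reflIso (stdPlus F 4) hb) g₁ g₂ := by
  exact Cfsg.Agent.Helper66.Tri.rel_refl_mul a b ha hb hab

/-- (GEN) `Ω = [O,O]` is generated by products `r_a r_b` with `N a = N b ≠ 0`.  Let `K` be the closure.
`K` is normal in `O` (`h r_a h⁻¹ = r_{h a}`); `O` is generated by reflections
(`Cfsg.Agent.Helper14.ReflGen.isometryGroup_closure_refl`, `card ι = 8 ≠ 4`); two reflections commute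
modulo `K` since `r_a r_b r_a⁻¹ r_b⁻¹ = r_a r_{r_b a}` and `N (r_b a) = N a`; so `O/K` is abelian and
`commutator O ≤ K` (`Subgroup.Normal.quotient_commutative_iff_commutator_le`).
ALTERNATIVE: `Ω = EK Q` (`Cfsg.Agent.Helper13.omega_eq_EK`), generated by Eichler elements, and
`Cfsg.Agent.Helper14.ReflGen.eich_eq_refl_mul` (`E(u,w) = r_w r_{w + Q w • u}`, equal norms) together with
`exists_split`/`eichGL_mem` (split `w = w₁ + (w - w₁)` with both nonsingular). -/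
theorem omega_le_closure [Fintype F] :
    Cfsg.Omega F ⇑(stdPlus F 4) ≤ Subgroup.closure {g : O8 F | ∃ (a b : OV F)
      (ha : stdPlus F 4 a ≠ 0) (hb : stdPlus F 4 b ≠ 0), stdPlus F 4 b = stdPlus F 4 a ∧
      g = reflIso (stdPlus F 4) ha * reflIso (stdPlus F 4) hb} := by
  exact Cfsg.Agent.Helper36.Tri.omega_le_closure

/-- (UNIQ) the second component of a related triple is determined by the first up to a scalar.
Put `h₁ = g₁⁻¹ g₁'`, `h₂ = g₂⁻¹ g₂'`: `Rel 1 h₁ h₂` (`Rel.inv`, `Rel.mul`), i.e. `x y = h₁(x) h₂(y)`.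
With `c₁ = h₁ 1`, `c₂ = h₂ 1` (`N c₁ = N c₂ = 1`, `c₁ c₂ = 1`): `y = c₁ h₂(y)`, `x = h₁(x) c₂`, hence
`h₂ y = c̄₁ y`, `h₁ x = x c̄₂`, `c₂ = c̄₁`; so `x y = (x c₁)(c̄₁ y)`; replacing `x` by `x c̄₁` gives
`(x c̄₁) y = x (c̄₁ y)`, so `c̄₁ = l • 1` by `hnuc`, and `h₁ x = l' • x`. -/
theorem rel_unique
    (hnuc : ∀ c : OV F, (∀ x y : OV F, omul (omul x c) y = omul x (omul c y)) → ∃ l : F, c = l • oone)
    {g₀ g₁ g₂ g₁' g₂' : O8 F} (h : Rel g₀ g₁ g₂) (h' : Rel g₀ g₁' g₂') :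
    ∃ c : F, ∀ x : OV F, g₁' • x = c • (g₁ • x) := by
  exact Cfsg.Agent.Helper79.Tri.rel_unique hnuc h h'

/-- (PERF) perfectness trick: since `Ω` is perfect and every element of `Ω` is the first component of a
related triple, the second component can be chosen in `Ω`.  In the product group `P = O8 × O8 × O8` let
`T = {t | Rel t.1 t.2.1 t.2.2 ∧ t.1 ∈ Ω}` (a subgroup).  `map fst T = Ω`; so
`Ω = ⁅Ω, Ω⁆ = map fst ⁅T, T⁆` (`Subgroup.map_commutator`, `Subgroup.map_subtype_commutator` for `hperf`),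
and `map (fst ∘ snd) ⁅T, T⁆ ≤ ⁅⊤, ⊤⁆ = commutator O8 = Ω`. -/
theorem exists_rel_omega (hperf : commutator ↥(Cfsg.Omega F ⇑(stdPlus F 4)) = ⊤)
    (hgen : ∀ g₀ ∈ Cfsg.Omega F ⇑(stdPlus F 4), ∃ g₁ g₂ : O8 F, Rel g₀ g₁ g₂) :
    ∀ g₀ ∈ Cfsg.Omega F ⇑(stdPlus F 4), ∃ g₁ ∈ Cfsg.Omega F ⇑(stdPlus F 4),
      ∃ g₂ : O8 F, Rel g₀ g₁ g₂ := by
  exact Cfsg.Agent.Helper79.Tri.exists_rel_omega hperf hgen

/-- (SPEC) the explicit triple `(B_{1+u₀}, L_{1+u₀}, R_{1+u₀})`: the Eichler element `E(u₀, -1)` acts as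
`z ↦ (1+u₀) z (1+u₀)`.  `g₁ = mkIso (id + Lm u₀) (id - Lm u₀)` (`u₀(u₀ x) = 0` by `alt_left`,
`omul_u₀_u₀`; isometry: `N (x + u₀ x) = N ((1+u₀) x) = N(1+u₀) N x`, `N (1+u₀) = 1`), `g₂` likewise with
`Rm`.  Both sides of `Rel` in coordinates: LHS by `E_act C N_u₀ (polar(u₀,-1) = 0)` (+ `act_def`), then
`apply ov_ext <;> simp only [..] <;> ring`.  (Identity checked by computer.) -/
theorem rel_special (C : Ctx (stdPlus F 4)) :
    ∃ g₁ g₂ : O8 F, Rel ((E (stdPlus F 4) u₀ (-oone) : ↥(Cfsg.Omega F ⇑(stdPlus F 4))) : O8 F) g₁ g₂ ∧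
      ∀ x : OV F, g₁ • x = x + omul u₀ x := by
  exact Cfsg.Agent.Helper23.Tri.rel_special C

/-- (TAU) the triality homomorphism.  For `g₀ : Ω` choose `g₁ ∈ Ω` by `hex`; `τ₀ g₀ := prj g₁`.
Independent of choices / multiplicative by `huniq` + `Rel.mul`: two elements of `Ω` that differ by a scalar
matrix have the same image under `prj` (their quotient is a scalar matrix in `Ω`, hence central:
`QuotientGroup.eq`, `Subgroup.mem_center_iff`, `O_ext`, `O_smul_smul_comm`).  `τ₀` kills the centre: a central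
`g₀` is a scalar `c₀` (`C.hcen`), and `Rel g₀ 1 g₀` holds too (`omul_smul_right`), so `g₁` is a scalar by
`huniq`, hence central.  Then `QuotientGroup.lift`. -/
theorem exists_tau (C : Ctx (stdPlus F 4))
    (hex : ∀ g₀ ∈ Cfsg.Omega F ⇑(stdPlus F 4), ∃ g₁ ∈ Cfsg.Omega F ⇑(stdPlus F 4),
      ∃ g₂ : O8 F, Rel g₀ g₁ g₂)
    (huniq : ∀ {g₀ g₁ g₂ g₁' g₂' : O8 F}, Rel g₀ g₁ g₂ → Rel g₀ g₁' g₂' →
      ∃ c : F, ∀ x : OV F, g₁' • x = c • (g₁ • x)) :
    ∃ τ : Cfsg.POmega F ⇑(stdPlus F 4) →* Cfsg.POmega F ⇑(stdPlus F 4),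
      ∀ (g₀ g₁ : ↥(Cfsg.Omega F ⇑(stdPlus F 4))) (g₂ : O8 F),
        Rel (g₀ : O8 F) (g₁ : O8 F) g₂ → τ (prj (stdPlus F 4) g₀) = prj (stdPlus F 4) g₁ := by
  exact Cfsg.Agent.Helper79.Tri.exists_tau C hex huniq

/-- (NOTQB) a scalar multiple of `L_{1+u₀}` does not lie in any point radical modulo the centre.
If `prj g₁ ∈ Qb u'` then `g₁ = z * E(u',w')` with `z` central (`mem_Qb`, `mem_Qrad C hu'`, `prj_eq_iff`),
`z` scalar `d` (`C.hcen`); so `c • (x + u₀ x) = d • E(u',w') x`; `c ≠ 0`.  At `x = u'`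
(`E_fix_left`): `u₀ u' = (d/c - 1) • u'`, and `u₀ (u₀ u') = 0` (`alt_left`, `omul_u₀_u₀`) forces `d = c`.
Then `u₀ x = E(u',w') x - x ∈ span {u', w'}` for all `x` (`E_act`), but `u₀ e` for
`e = Pi.single (inl 0) 1, Pi.single (inr 2) 1, Pi.single (inr 3) 1` are three linearly independent vectors
(`u₀ x` has coordinates `inl 1 ↦ x(inr 0)`, `inr 2 ↦ -x(inl 3)`, `inr 3 ↦ x(inl 2)`, `inl 0 ↦ -x(inr 1)`). -/
theorem special_not_mem_Qb (C : Ctx (stdPlus F 4)) (g₁ : ↥(Cfsg.Omega F ⇑(stdPlus F 4))) (c : F)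
    (hg₁ : ∀ x : OV F, (g₁ : O8 F) • x = c • (x + omul u₀ x))
    (u' : OV F) (hu'0 : u' ≠ 0) (hu' : stdPlus F 4 u' = 0) :
    prj (stdPlus F 4) g₁ ∉ Qb (stdPlus F 4) u' := by
  exact Cfsg.Agent.Helper26.Tri.special_not_mem_Qb C g₁ c hg₁ u' hu'0 hu'

end E

/-! ## U-side: automorphisms of `PΩ⁺₈` and the three classes of "root-group-like" subgroups -/

section U

variable {F : Type*} [Field F] [Fintype F] {ι : Type} [Fintype ι] [DecidableEq ι]
  {Q : QuadraticForm F (ι → F)}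

open Cfsg.Agent.Helper13.OrthPermA Cfsg.Agent.Helper13.OrthPermD in
/-- (PP) Theorem P': COPY of `Cfsg.Agent.Helper13.OrthPermD.perm_core` (Lib/Helper13/OrthPermD.lean)
WITHOUT `hbad`/`F3` and without the final `exfalso` of case 2: in case 2 return the right disjunct
(`case2` gives exactly `hYY` and `hAZ`).  `F1`, `F2` are discharged as in
`Cfsg.Agent.Helper13.OrthPermE.theoremP_of_count` (helper90 `OrthPermF1.exists_rootGroup_le_map`,
helper44 `OrthPermF2.exists_ts_invariant`, both need only `WI3`). -/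
theorem thP' (h : WI3 Q)
    (α : (↥(EK Q) ⧸ Subgroup.center ↥(EK Q)) ≃* (↥(EK Q) ⧸ Subgroup.center ↥(EK Q)))
    {u : ι → F} (hu0 : u ≠ 0) (hu : Q u = 0) :
    (∃ (u' : ι → F) (_ : u' ≠ 0) (hu' : Q u' = 0),
      (Cfsg.Agent.Helper13.OrthPermC.Qb u hu).map α.toMonoidHom =
        Cfsg.Agent.Helper13.OrthPermC.Qb u' hu') ∨
    (∃ Y0 : Submodule F (ι → F), (∀ y ∈ Y0, Q y = 0) ∧
      (∀ x : ι → F, (∀ y ∈ Y0, polar (⇑Q) y x = 0) → x ∈ Y0) ∧
      (Cfsg.Agent.Helper13.OrthPermC.Qb u hu).map α.toMonoidHom =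
        (Cfsg.Agent.Helper13.OrthPermD.Z0 (Q := Q) Y0).map (Cfsg.Agent.Helper13.OrthPermC.mkb Q)) := by
  exact Cfsg.Agent.Helper85.Tri.thP' h α hu0 hu

/-- (PPB) transport of (PP) along `Ω = EK` to `PΩ`, `Qb`, `Zb`: COPY of
`Cfsg.Agent.Helper13.OAutBR.thP_bridge` (Lib/Helper13/OAutBRP.lean: `phi`, `phib`, `phi_E`, `mem_Qb_iff`),
plus the analogue of `mem_Qb_iff` for `Zb`/`Z0` (both are `closure` of the Eichler elements `E y y'`,
`y, y' ∈ Y`, `Q y = 0`, `polar y y' = 0` by total singularity; `phi_E` identifies the generators;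
`MonoidHom.map_closure`). -/
theorem thP'_Qb (C : Ctx Q)
    (hP' : ∀ (α : (↥(EK Q) ⧸ Subgroup.center ↥(EK Q)) ≃* (↥(EK Q) ⧸ Subgroup.center ↥(EK Q)))
      {u : ι → F} (hu0 : u ≠ 0) (hu : Q u = 0),
      (∃ (u' : ι → F) (_ : u' ≠ 0) (hu' : Q u' = 0),
        (Cfsg.Agent.Helper13.OrthPermC.Qb u hu).map α.toMonoidHom =
          Cfsg.Agent.Helper13.OrthPermC.Qb u' hu') ∨
      (∃ Y0 : Submodule F (ι → F), (∀ y ∈ Y0, Q y = 0) ∧
        (∀ x : ι → F, (∀ y ∈ Y0, polar (⇑Q) y x = 0) → x ∈ Y0) ∧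
        (Cfsg.Agent.Helper13.OrthPermC.Qb u hu).map α.toMonoidHom =
          (Cfsg.Agent.Helper13.OrthPermD.Z0 (Q := Q) Y0).map (Cfsg.Agent.Helper13.OrthPermC.mkb Q)))
    (α : Cfsg.POmega F ⇑Q ≃* Cfsg.POmega F ⇑Q) {u : ι → F} (hu0 : u ≠ 0) (hu : Q u = 0) :
    (∃ u' : ι → F, u' ≠ 0 ∧ Q u' = 0 ∧ (Qb Q u).map α.toMonoidHom = Qb Q u') ∨
    (∃ Y : Submodule F (ι → F), (∀ y ∈ Y, Q y = 0) ∧
      (∀ x : ι → F, (∀ y ∈ Y, polar (⇑Q) y x = 0) → x ∈ Y) ∧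
      (Qb Q u).map α.toMonoidHom = Zb Q Y) := by
  exact Cfsg.Agent.Helper77.Tri.thP'_Qb C hP' α hu0 hu

/-- (UC) an automorphism mapping ONE point radical to a point radical lies in `PΓO`.  COPY of the body
of `Cfsg.Agent.Helper5.OAut.gamma_eq_top` (Lib/Helper5/OAut16.lean) for the fixed `α`, with the four
hypotheses discharged as in `gamma_eq_top'` (Lib/Helper5/OAut18.lean: `nGeo C`, helper76
`OAutBR.Qrad_sup_eq_top C`, helper13 `OAutNG.NG_move C`).  `hP` is needed there only at `u` and at a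
partner `v` (`exists_partner C hu0 hu`); for `v`: by `NG_move` (pairs `(v,u)` and `(u,v)`) there is
`g ∈ Ω` with `g ⋆ u = c • v`, so `Qb v = (Qb u).map (conj (prj g))` (`Qb_conj`, `Qb_smul`), and
`α ∘ conj (prj g) = conj (α (prj g)) ∘ α`, `α (prj g) = prj g'` (`prj` surjective), so
`(Qb v).map α = Qb (g' ⋆ u')`. -/
theorem mem_gamma_of_Qb (C : Ctx Q) (α : Cfsg.POmega F ⇑Q ≃* Cfsg.POmega F ⇑Q)
    {u u' : ι → F} (hu0 : u ≠ 0) (hu : Q u = 0) (hu'0 : u' ≠ 0) (hu' : Q u' = 0)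
    (h : (Qb Q u).map α.toMonoidHom = Qb Q u') : α ∈ Cfsg.gammaPOmega F ⇑Q := by
  exact Cfsg.Agent.Helper5.Tri.mem_gamma_of_Qb C α hu0 hu hu'0 hu' h

/-- (UD) elements of `PΓO` permute the point radicals.  `gammaPOmega = (Theta Q).range`
(`Cfsg.Agent.Helper43.OGam.range_Theta`), so `α = Theta ⇑Q L`, `L : GamO ⇑Q` with `sig`, `mu`, `toAdd`
(`sig_spec`, `mu_spec`).  Generators of `Qrad u` are `E u w`; `Theta_spec` + helper5 `semi_conj C (toAdd L)
(sig L) (mu L) ..` give `Theta L (prj (E u w)) = prj (E (L u) (μ⁻¹ • L w))`; so `(Qb u).map α ≤ Qb (L u)`;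
equality by applying the same to `L⁻¹` (or by `mem_Qrad` and surjectivity of `L` on `u^⊥`). `u' = L u`. -/
theorem gamma_maps_Qb (C : Ctx Q) (α : Cfsg.POmega F ⇑Q ≃* Cfsg.POmega F ⇑Q)
    (hα : α ∈ Cfsg.gammaPOmega F ⇑Q) {u : ι → F} (hu0 : u ≠ 0) (hu : Q u = 0) :
    ∃ u' : ι → F, u' ≠ 0 ∧ Q u' = 0 ∧ (Qb Q u).map α.toMonoidHom = Qb Q u' := by
  exact Cfsg.Agent.Helper42.Tri.gamma_maps_Qb C α hα hu0 hu

/-- (UE) the automorphism induced by an isometry `h` maps `Zb Y` to `Zb (h Y)`.  Generators: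
`Theta_spec` + `semi_conj C` (with `L = ` mulVec by `h`, `σ = 1`, `μ = 1`; `isoGam_apply`) give
`Theta (isoGam h) (prj (E y y')) = prj (E (h y) (h y'))`; `MonoidHom.map_closure`; both inclusions (use
`h⁻¹` for the converse or rewrite the generating set as an image). -/
theorem Zb_map_iso (C : Ctx Q) (h : ↥(Cfsg.isometryGroup F ⇑Q)) (Y : Submodule F (ι → F))
    (hY : ∀ y ∈ Y, Q y = 0) :
    (Zb Q Y).map ((Theta (⇑Q) (Cfsg.Agent.Helper43.OMin.isoGam (⇑Q) h) :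
        Cfsg.POmega F ⇑Q ≃* Cfsg.POmega F ⇑Q)).toMonoidHom =
      Zb Q (Y.map (Matrix.mulVecLin ((h : GL ι F) : Matrix ι ι F))) := by
  exact Cfsg.Agent.Helper42.Tri.Zb_map_iso C h Y hY

/-- (UF) `Zb Y` determines `Y`.  Let `y₁ ∈ Y`; pick `y₂ ∈ Y` with `y₁, y₂` independent (`3 ≤ dim Y`).
`prj (E y₁ y₂) ∈ Zb Y ≤ Zb Y'`, so `E y₁ y₂ = z * z'`, `z` central = scalar `c` (`C.hcen`, `prj_eq_iff`),
`z' ∈ Zrad Y'` fixes `Y'` pointwise (closure induction + `E_act`, all polars vanish on a t.s. subspace).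
For `x ∈ Y'`: `E y₁ y₂ ⋆ x = x + polar y₁ x • y₂ - polar y₂ x • y₁ = c • x` (`E_act`, `Q y₂ = 0`).
If `c ≠ 1`, `Y' ≤ span {y₁, y₂}`, contradicting `3 ≤ dim Y'`; so `c = 1` and independence gives
`polar y₁ x = 0` for all `x ∈ Y'`, i.e. `y₁ ∈ Y'` by `hYY'`. -/
theorem Zb_le_imp_le (C : Ctx Q) (Y Y' : Submodule F (ι → F)) (hY : ∀ y ∈ Y, Q y = 0)
    (hY' : ∀ y ∈ Y', Q y = 0)
    (hYY' : ∀ x : ι → F, (∀ y ∈ Y', polar (⇑Q) y x = 0) → x ∈ Y')
    (hd : 3 ≤ finrank F Y) (hd' : 3 ≤ finrank F Y') (h : Zb Q Y ≤ Zb Q Y') : Y ≤ Y' := by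
  exact Cfsg.Agent.Helper45.Tri.Zb_le_imp_le C Y Y' hY hY' hYY' hd hd' h

/-- (CL) `Ω` preserves and reflections swap the two classes of maximal t.s. subspaces.  helper36:
`Cfsg.Agent.Helper36.DicksonDet.dickson` is a hom to the abelian `Multiplicative (ZMod 2)`, so it is `1` on
`Ω = commutator O` (`Abelianization.commutator_subset_ker` / `Subgroup.commutator_le`-style), and
`dickson_apply`; `dickson_reflIso` (or `dnat_reflIso`) for the reflection; `(n : ZMod 2) = 0 ↔ Even n`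
(`ZMod.natCast_eq_zero_iff_even`).  `hV : finrank F (OV F) = 2 * 4` by `Module.finrank_fintype_fun_eq_card`. -/
theorem sameCl_omega_refl {F : Type*} [Field F] [Fintype F] (Y : Submodule F (OV F)) (hY : MTS Y) :
    (∀ g ∈ Cfsg.Omega F ⇑(stdPlus F 4),
      SameCl Y (Y.map (Matrix.mulVecLin ((g : GL (Fin 4 ⊕ Fin 4) F) : Matrix _ _ F)))) ∧
    (∀ (a : OV F) (ha : stdPlus F 4 a ≠ 0),
      ¬ SameCl Y (Y.map (Matrix.mulVecLin
        (((reflIso (stdPlus F 4) ha : O8 F) : GL (Fin 4 ⊕ Fin 4) F) : Matrix _ _ F)))) := by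
  exact Cfsg.Agent.Helper36.Tri.sameCl_omega_refl Y hY

end U

/-! ## C-side: counting -/

section C

variable {F : Type*} [Field F] [Fintype F] {ι : Type} [Fintype ι] [DecidableEq ι]

/-- (CA) `|PΓO| = |Aut F| · |PGO-image|`, WITHOUT `gammaPOmega = ⊤`.  COPY of
`Cfsg.Agent.Helper14.OrthAutCount.card_mulAut` (Lib/Helper14/OrthAutCount.lean): replace `Theta` by its
`rangeRestrict` onto `(Theta ⇑Q).range = gammaPOmega` (`range_Theta`); `ker ≤ Lin` by `rigid`;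
`(Lin).map Theta = pgoAut` (`map_Lin_eq_pgoAut`), index of `Lin` = `|RingAut F|` (`sigHom_ker`,
`sigHom_surjective`). -/
theorem card_gamma (Q : QuadraticForm F (ι → F)) (hQ : (polarBilin Q).Nondegenerate) {k : ℕ}
    (e f : Fin k → (ι → F)) (hef : IsHypFamily Q e f) (hk : 3 ≤ k) (hn : 5 ≤ Fintype.card ι)
    (hσ : ∀ σ : F ≃+* F, ∃ g : GL ι F, Cfsg.IsSemisimilarityPair (⇑Q) g σ) :
    Nat.card ↥(Cfsg.gammaPOmega F ⇑Q) =
      Nat.card (RingAut F) * Nat.card ↥(Cfsg.pgoAut F ⇑Q) := by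
  exact Cfsg.Agent.Helper43.TriCA.card_gamma Q hQ e f hef hk hn hσ

/-- (CB) characteristic 2, plus type: `|PGO-image| = 2 |PΩ|`.  `Φ : O → Aut(PΩ)`, `h ↦ Theta (isoGam h)`;
range `= pgoAut` (`Cfsg.Agent.Helper14.OrthAutCount.map_Lin_eq_pgoAut` + helper43
`OMin.exists_iso_of_Lin h2`: in char 2 every linear semisimilarity is a scalar times an isometry, and
scalars act trivially: `Theta_of_omega`-style / `Theta_spec`); injective (`Theta L = 1 → L` scalar by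
`Cfsg.Agent.Helper43.OGam.rigid`; a scalar isometry has `c² = 1`, so `c = 1` in char 2).  So
`|pgoAut| = |O| = 2 |Ω|` (`Cfsg.Agent.Lead.POmegaCard.index_omega_even`), and `|PΩ| = |Ω|` since the
centre of `Ω` consists of scalars `c` with `c² = 1` (`Ctx.hcen` / helper23 `ctx_of_hyp`), trivial in char 2. -/
theorem card_pgoAut_plus_even (h2 : (2 : F) = 0) {m : ℕ} (hm : 4 ≤ m) :
    Nat.card ↥(Cfsg.pgoAut F (Cfsg.quadFormPlus m F)) =
      2 * Nat.card (Cfsg.POmega F (Cfsg.quadFormPlus m F)) := by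
  exact Cfsg.Agent.Helper42.Tri.card_pgoAut_plus_even h2 hm

end C

end Cfsg.Agent.Helper43.TriSigs
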